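import Cfsg.Agent.H129.WForm

/-!
# `E₇`: elements of the Weyl group preserving a parity and the positive even roots (helper351, S3026)

`j = 0, 1, 6` (the fundamental coweights `ω₁, ω₂, ω₇`). An element of the Weyl group preserving the parity of the
`j`-th coefficient and mapping the positive roots with even `j`-th coefficient to positive roots is trivial or one
further element (`j = 0`: trivial): `class0`, `class1`, `class6`.
-/

set_option autoImplicit false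
set_option linter.unusedSectionVars false

namespace Cfsg.Agent.H351.UnfE7

open CoxeterSystem Cfsg Cfsg.Lie Cfsg.Lie.ChevalleyDatum
open Cfsg.Agent.ChevalleyStructure Cfsg.Agent.ChevalleyStructure.CoxeterGeom
  Cfsg.Agent.ChevalleyStructure.CoxeterGeomTypes Cfsg.Agent.ChevalleyStructure.RootVec
open Cfsg.Agent.Tits.Roots Cfsg.Agent.Tits.Core Cfsg.Agent.Nodes Cfsg.Agent.Nodes.Reps Cfsg.Agent.Nodes.BNOf
  Cfsg.Agent.Nodes.RGDChev Cfsg.Agent.Nodes.Bruhat Cfsg.Agent.Nodes.SubComb Cfsg.Agent.Nodes.Coroot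
open Cfsg.Agent.H129.TorusCent Cfsg.Agent.H129.WData Cfsg.Agent.H129.WForm Cfsg.Agent.H129.TorusChar

theorem hp7 : IsType chevE7 7 CoxeterMatrix.E₇ := by simp [IsType, typeList]

/-- the Cartan matrix of `E₇` -/
def A7 : Mat 7 := ![![2, 0, -1, 0, 0, 0, 0], ![0, 2, 0, -1, 0, 0, 0], ![-1, 0, 2, -1, 0, 0, 0],
  ![0, -1, -1, 2, -1, 0, 0], ![0, 0, 0, -1, 2, -1, 0], ![0, 0, 0, 0, -1, 2, -1], ![0, 0, 0, 0, 0, -1, 2]]

theorem hA7 : ∀ i j, A7 i j = cartanOf chevE7 7 i j := by decide +kernel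

def dep7 : Fin 7 → ℕ := ![2, 1, 1, 0, 1, 2, 3]

theorem conn7 : ConnOK A7 3 dep7 := by decide +kernel

abbrev V := Fin 7 → ℤ

/-- the invariant form -/
def ip (x y : V) : ℤ := ∑ i, y i * ∑ j, A7 i j * x j

/-! ### the search -/

/-- all families with prescribed candidates and products -/
def run (cand : Fin 7 → List V) : List (Fin 7) → List (Fin 7 × V) → List (List (Fin 7 × V))
  | [], pre => [pre]
  | i :: is, pre => ((cand i).filter fun v => pre.all fun p => ip v p.2 == A7 p.1 i).flatMap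
      fun v => run cand is ((i, v) :: pre)

theorem run_sound {cand : Fin 7 → List V} {b : Fin 7 → V} (hb : ∀ i, b i ∈ cand i)
    (hip : ∀ i k, ip (b i) (b k) = A7 k i) : ∀ (is : List (Fin 7)) (pre : List (Fin 7 × V)),
    (∀ p ∈ pre, p.2 = b p.1) → ∃ out ∈ run cand is pre, ∀ p ∈ out, p.2 = b p.1 := by
  intro is
  induction is with
  | nil => intro pre h; exact ⟨pre, by simp [run], h⟩
  | cons i is ih =>
    intro pre h
    obtain ⟨out, h1, h2⟩ := ih ((i, b i) :: pre) (by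
      intro p hp
      rcases List.mem_cons.1 hp with rfl | hp
      · rfl
      · exact h p hp)
    refine ⟨out, ?_, h2⟩
    unfold run
    rw [List.mem_flatMap]
    refine ⟨b i, List.mem_filter.2 ⟨hb i, ?_⟩, h1⟩
    rw [List.all_eq_true]
    intro p hp
    rw [beq_iff_eq, h p hp]
    exact hip i p.1

/-- the conclusion of a search with at most two results -/
theorem run_two {cand : Fin 7 → List V} {is : List (Fin 7)} {s₁ s₂ : Fin 7 → V}
    (hc : ∀ out ∈ run cand is [], (∀ i, (i, s₁ i) ∈ out) ∨ (∀ i, (i, s₂ i) ∈ out)) {b : Fin 7 → V}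
    (hb : ∀ i, b i ∈ cand i) (hip : ∀ i k, ip (b i) (b k) = A7 k i) : (∀ i, b i = s₁ i) ∨ ∀ i, b i = s₂ i := by
  obtain ⟨out, h1, h2⟩ := run_sound hb hip is [] (by simp)
  rcases hc out h1 with h | h
  · exact Or.inl fun i => (h2 _ (h i)).symm
  · exact Or.inr fun i => (h2 _ (h i)).symm

/-! ### the even positive roots -/

/-- the indices of the positive roots with even `j`-th coefficient -/
def PI (j : Fin 7) : Finset (Fin chevE7.nroots) :=
  Finset.univ.filter fun r : Fin chevE7.nroots => (∀ i, 0 ≤ vec chevE7 7 (r : ℕ) i) ∧ vec chevE7 7 (r : ℕ) j % 2 = 0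

/-- the positive roots with even `j`-th coefficient -/
def PE (j : Fin 7) : Finset V := (PI j).image fun r : Fin chevE7.nroots => vec chevE7 7 (r : ℕ)

/-- the sum of the positive roots with even `j`-th coefficient -/
def rho (j : Fin 7) : V := (![![2, 17, 18, 32, 27, 20, 11], ![14, 14, 26, 36, 30, 22, 12], 0, 0, 0, 0,
  ![16, 22, 30, 42, 30, 16, 0]] : Fin 7 → V) j

theorem sum_PE (j : Fin 7) : ∑ x ∈ PE j, x = ∑ r ∈ PI j, vec chevE7 7 (r : ℕ) := by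
  unfold PE
  rw [Finset.sum_image]
  intro r _ s _ h
  exact Fin.ext (vec_inj hp7 r.2 s.2 h)

theorem sum_PE0 : ∑ x ∈ PE 0, x = rho 0 := by
  rw [sum_PE]; decide +kernel
theorem sum_PE1 : ∑ x ∈ PE 1, x = rho 1 := by
  rw [sum_PE]; decide +kernel
theorem sum_PE6 : ∑ x ∈ PE 6, x = rho 6 := by
  rw [sum_PE]; decide +kernel

/-- the base of the even roots -/
def B0 : List V := [![0, 1, 0, 0, 0, 0, 0], ![0, 0, 1, 0, 0, 0, 0], ![0, 0, 0, 1, 0, 0, 0], ![0, 0, 0, 0, 1, 0, 0],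
  ![0, 0, 0, 0, 0, 1, 0], ![0, 0, 0, 0, 0, 0, 1], ![2, 2, 3, 4, 3, 2, 1]]
def B1 : List V := [![1, 0, 0, 0, 0, 0, 0], ![0, 0, 1, 0, 0, 0, 0], ![0, 0, 0, 1, 0, 0, 0], ![0, 0, 0, 0, 1, 0, 0],
  ![0, 0, 0, 0, 0, 1, 0], ![0, 0, 0, 0, 0, 0, 1], ![1, 2, 2, 3, 2, 1, 0]]
def B6 : List V := [![1, 0, 0, 0, 0, 0, 0], ![0, 1, 0, 0, 0, 0, 0], ![0, 0, 1, 0, 0, 0, 0], ![0, 0, 0, 1, 0, 0, 0],
  ![0, 0, 0, 0, 1, 0, 0], ![0, 0, 0, 0, 0, 1, 0]]

/-- the condition on the image of the `i`-th simple root -/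
def Cnd (j i : Fin 7) (x : V) : Prop :=
  (if i = j then x j % 2 = 1 else (∀ m, 0 ≤ x m) ∧ x j % 2 = 0) ∧ ip (rho j) x = ip (rho j) (fun m => if m = i then 1 else 0)

instance (j i : Fin 7) (x : V) : Decidable (Cnd j i x) := by unfold Cnd; infer_instance

/-- the candidates for the image of the simple root `j` -/
def O0 : List V := [![-1, -2, -2, -4, -3, -2, -1], ![1, 0, 0, 0, 0, 0, 0]]
def O1 : List V := [![-1, -1, -2, -2, -2, -1, 0], ![-1, -1, -2, -2, -1, -1, -1], ![-1, -1, -1, -2, -2, -1, -1],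
  ![0, -1, -1, -2, -2, -2, -1], ![0, 1, 0, 0, 0, 0, 0]]
def O6 : List V := [![-2, -2, -3, -4, -3, -2, -1], ![0, 0, 0, 0, 0, 0, 1]]

theorem cand0 : ∀ i : Fin 7, ∀ r : Fin chevE7.nroots, Cnd 0 i (vec chevE7 7 (r : ℕ)) →
    vec chevE7 7 (r : ℕ) ∈ (if i = 0 then O0 else B0) := by decide +kernel
theorem cand1 : ∀ i : Fin 7, ∀ r : Fin chevE7.nroots, Cnd 1 i (vec chevE7 7 (r : ℕ)) →
    vec chevE7 7 (r : ℕ) ∈ (if i = 1 then O1 else B1) := by decide +kernel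
theorem cand6 : ∀ i : Fin 7, ∀ r : Fin chevE7.nroots, Cnd 6 i (vec chevE7 7 (r : ℕ)) →
    vec chevE7 7 (r : ℕ) ∈ (if i = 6 then O6 else B6) := by decide +kernel

/-- the simple roots -/
def id7 : Fin 7 → V := ![![1, 0, 0, 0, 0, 0, 0], ![0, 1, 0, 0, 0, 0, 0], ![0, 0, 1, 0, 0, 0, 0], ![0, 0, 0, 1, 0, 0, 0],
  ![0, 0, 0, 0, 1, 0, 0], ![0, 0, 0, 0, 0, 1, 0], ![0, 0, 0, 0, 0, 0, 1]]
def tw1 : Fin 7 → V := ![![1, 2, 2, 3, 2, 1, 0], ![0, -1, -1, -2, -2, -2, -1], ![0, 0, 0, 0, 0, 0, 1],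
  ![0, 0, 0, 0, 0, 1, 0], ![0, 0, 0, 0, 1, 0, 0], ![0, 0, 0, 1, 0, 0, 0], ![0, 0, 1, 0, 0, 0, 0]]
def tw6 : Fin 7 → V := ![![0, 0, 0, 0, 0, 1, 0], ![0, 1, 0, 0, 0, 0, 0], ![0, 0, 0, 0, 1, 0, 0], ![0, 0, 0, 1, 0, 0, 0],
  ![0, 0, 1, 0, 0, 0, 0], ![1, 0, 0, 0, 0, 0, 0], ![-2, -2, -3, -4, -3, -2, -1]]

theorem search0 : ∀ out ∈ run (fun i => if i = 0 then O0 else B0) [2, 3, 4, 5, 6, 1, 0] [],
    (∀ i, (i, id7 i) ∈ out) ∨ (∀ i, (i, id7 i) ∈ out) := by decide +kernel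
theorem search1 : ∀ out ∈ run (fun i => if i = 1 then O1 else B1) [0, 2, 3, 4, 5, 6, 1] [],
    (∀ i, (i, id7 i) ∈ out) ∨ (∀ i, (i, tw1 i) ∈ out) := by decide +kernel
theorem search6 : ∀ out ∈ run (fun i => if i = 6 then O6 else B6) [0, 2, 3, 4, 5, 1, 6] [],
    (∀ i, (i, id7 i) ∈ out) ∨ (∀ i, (i, tw6 i) ∈ out) := by decide +kernel

theorem sr_eq (i : Fin 7) : (sr i : V) = fun m => if m = i then 1 else 0 := by
  funext m
  by_cases h : m = i
  · subst h; rw [sr_self, if_pos rfl]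
  · rw [sr_ne h, if_neg h]

theorem id7_eq : ∀ i : Fin 7, id7 i = fun m => if m = i then 1 else 0 := by decide +kernel

section

variable {W : Type*} [Group W] (cs : CoxeterSystem CoxeterMatrix.E₇ W)

/-- The hypotheses on `w`. -/
structure Pres (j : Fin 7) (w : W) : Prop where
  par : ∀ x, (rep cs hp7.isCartan w x j) % 2 = x j % 2
  pos : ∀ a, IsRoot cs hp7.isCartan a → a j % 2 = 0 → 0 ≤ a → 0 ≤ rep cs hp7.isCartan w a

theorem mem_PE {j : Fin 7} {x : V} : x ∈ PE j ↔ IsRoot cs hp7.isCartan x ∧ 0 ≤ x ∧ x j % 2 = 0 := by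
  unfold PE PI
  rw [Finset.mem_image]
  constructor
  · rintro ⟨r, hr, rfl⟩
    rw [Finset.mem_filter] at hr
    exact ⟨isRoot_vec hp7 cs r.2, fun i => hr.2.1 i, hr.2.2⟩
  · rintro ⟨h1, h2, h3⟩
    obtain ⟨r, hr, rfl⟩ := (isRoot_iff hp7 cs x).1 h1
    exact ⟨⟨r, hr⟩, Finset.mem_filter.2 ⟨Finset.mem_univ _, fun i => h2 i, h3⟩, rfl⟩

variable {cs}

theorem Pres.rho_fix {j : Fin 7} {w : W} (h : Pres cs j w) : rep cs hp7.isCartan w (∑ x ∈ PE j, x) = ∑ x ∈ PE j, x := by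
  have hsub : (PE j).image (fun x => rep cs hp7.isCartan w x) ⊆ PE j := by
    intro y hy
    obtain ⟨x, hx, rfl⟩ := Finset.mem_image.1 hy
    obtain ⟨h1, h2, h3⟩ := (mem_PE cs).1 hx
    exact (mem_PE cs).2 ⟨h1.act w, h.pos x h1 h3 h2, by rw [h.par, h3]⟩
  have hinj : Function.Injective fun x => rep cs hp7.isCartan w x := by
    intro x y e
    have e' : rep cs hp7.isCartan w x = rep cs hp7.isCartan w y := e
    rw [← rep_inv_apply cs hp7.isCartan w x, e', rep_inv_apply]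
  have he := Finset.eq_of_subset_of_card_le hsub (by rw [Finset.card_image_of_injective _ hinj])
  rw [map_sum]
  conv_rhs => rw [← he]
  rw [Finset.sum_image (fun x _ y _ e => hinj e)]

theorem cpr_ip [Finite W] (x : V) {y : V} (hy : IsRoot cs hp7.isCartan y) : cpr cs hp7.isCartan x y = ip x y :=
  cpr_eq hp7 cs hA7 conn7 x hy

theorem Pres.cnd [Finite W] {j : Fin 7} {w : W} (h : Pres cs j w) (hrho : ∑ x ∈ PE j, x = rho j) (i : Fin 7) :
    Cnd j i (rep cs hp7.isCartan w (sr i)) := by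
  have hr := isRoot_sr cs hp7.isCartan i
  refine ⟨?_, ?_⟩
  · split_ifs with hij
    · subst hij
      rw [h.par, sr_self]
      rfl
    · have h0 : (sr i : V) j % 2 = 0 := by
        rw [sr_ne (Ne.symm hij)]
        rfl
      refine ⟨fun m => ?_, by rw [h.par, h0]⟩
      exact h.pos _ hr h0 (fun m => by
        rw [sr_eq]
        show (0 : ℤ) ≤ if m = i then 1 else 0
        split_ifs <;> norm_num) m
  · have h1 := h.rho_fix
    rw [hrho] at h1
    rw [← sr_eq, ← cpr_ip (cs := cs) _ (hr.act w), ← cpr_ip (cs := cs) _ hr]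
    conv_lhs => rw [← h1]
    exact cpr_rep cs hp7.isCartan w _ hr

theorem Pres.ip [Finite W] (w : W) (i k : Fin 7) :
    ip (rep cs hp7.isCartan w (sr i)) (rep cs hp7.isCartan w (sr k)) = A7 k i := by
  have hr := isRoot_sr cs hp7.isCartan k
  rw [← cpr_ip (cs := cs) _ (hr.act w), cpr_rep cs hp7.isCartan w _ hr, cpr_sr, pairing_sr, hA7]

theorem Pres.mem [Finite W] {j : Fin 7} {w : W} (h : Pres cs j w) (hrho : ∑ x ∈ PE j, x = rho j) {O B : List V}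
    (hc : ∀ i : Fin 7, ∀ r : Fin chevE7.nroots, Cnd j i (vec chevE7 7 (r : ℕ)) →
      vec chevE7 7 (r : ℕ) ∈ (if i = j then O else B)) (i : Fin 7) :
    rep cs hp7.isCartan w (sr i) ∈ (if i = j then O else B) := by
  have h1 := h.cnd hrho i
  obtain ⟨r, hr, e⟩ := (isRoot_iff hp7 cs _).1 ((isRoot_sr cs hp7.isCartan i).act w)
  rw [← e] at h1 ⊢
  exact hc i ⟨r, hr⟩ h1

/-- the simple roots are fixed -/
theorem eq_refl {w : W} (h : ∀ i, rep cs hp7.isCartan w (sr i) = id7 i) (i : Fin 7) :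
    rep cs hp7.isCartan w (sr i) = sr i := by
  rw [h, id7_eq, sr_eq]

theorem class0 [Finite W] {w : W} (h : Pres cs 0 w) : w = 1 := by
  refine ChevalleyStructure.CoxeterGeom.eq_one_of_fix cs hp7.isCartan w fun i => ?_
  rcases run_two search0 (b := fun i => rep cs hp7.isCartan w (sr i)) (h.mem sum_PE0 cand0) (Pres.ip w) with h1 | h1
  · exact eq_refl h1 i
  · exact eq_refl h1 i

theorem class_two [Finite W] {j : Fin 7} {s : Fin 7 → V} {w₁ w₂ : W}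
    (h₁ : (∀ i, rep cs hp7.isCartan w₁ (sr i) = id7 i) ∨ (∀ i, rep cs hp7.isCartan w₁ (sr i) = s i))
    (h₂ : (∀ i, rep cs hp7.isCartan w₂ (sr i) = id7 i) ∨ (∀ i, rep cs hp7.isCartan w₂ (sr i) = s i)) :
    w₁ = 1 ∨ w₂ = 1 ∨ w₁ = w₂ := by
  have key : ∀ {w : W}, (∀ i, rep cs hp7.isCartan w (sr i) = id7 i) → w = 1 := fun h =>
    ChevalleyStructure.CoxeterGeom.eq_one_of_fix cs hp7.isCartan _ fun i => eq_refl h i
  rcases h₁ with h₁ | h₁
  · exact Or.inl (key h₁)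
  rcases h₂ with h₂ | h₂
  · exact Or.inr (Or.inl (key h₂))
  · right; right
    have h3 : w₂⁻¹ * w₁ = 1 := by
      refine ChevalleyStructure.CoxeterGeom.eq_one_of_fix cs hp7.isCartan _ fun i => ?_
      show rep cs hp7.isCartan (w₂⁻¹ * w₁) (sr i) = sr i
      rw [rep_mul_apply, h₁, ← h₂, rep_inv_apply]
    exact (inv_mul_eq_one.1 h3).symm

theorem class1 [Finite W] {w₁ w₂ : W} (h₁ : Pres cs 1 w₁) (h₂ : Pres cs 1 w₂) : w₁ = 1 ∨ w₂ = 1 ∨ w₁ = w₂ :=
  class_two (j := 1) (run_two search1 (b := fun i => rep cs hp7.isCartan w₁ (sr i)) (h₁.mem sum_PE1 cand1) (Pres.ip w₁))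
    (run_two search1 (b := fun i => rep cs hp7.isCartan w₂ (sr i)) (h₂.mem sum_PE1 cand1) (Pres.ip w₂))

theorem class6 [Finite W] {w₁ w₂ : W} (h₁ : Pres cs 6 w₁) (h₂ : Pres cs 6 w₂) : w₁ = 1 ∨ w₂ = 1 ∨ w₁ = w₂ :=
  class_two (j := 6) (run_two search6 (b := fun i => rep cs hp7.isCartan w₁ (sr i)) (h₁.mem sum_PE6 cand6) (Pres.ip w₁))
    (run_two search6 (b := fun i => rep cs hp7.isCartan w₂ (sr i)) (h₂.mem sum_PE6 cand6) (Pres.ip w₂))

end

end Cfsg.Agent.H351.UnfE7
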