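import Cfsg.Agent.H129.TorusUntw
import Cfsg.Agent.H351.UnfE7.Comb
import Cfsg.Agent.S1035

/-!
# The torus of the finite group (helper351, S3026)

* `mem_TT_of_emb` : an element of `D.group F` whose image in `D.group k` is in the torus is in the torus;
* `parity` : for `t` in the torus of `E₇(k)` and in the image of `E₇(F)`: `cX t (α₂ + α₅ + α₇)` is the square of an
  element of `F`;
* `mul_mem_range` : the image of `E₇(F)`, `|F|` odd, has index at most two in the fixed points (after `H129.HalfT`).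
-/

set_option autoImplicit false
set_option linter.unusedSectionVars false

namespace Cfsg.Agent.H351.UnfE7

open CoxeterSystem Cfsg Cfsg.Lie Cfsg.Lie.ChevalleyDatum
open Cfsg.Agent.ChevalleyStructure Cfsg.Agent.ChevalleyStructure.Elts Cfsg.Agent.ChevalleyStructure.CoxeterGeom
  Cfsg.Agent.ChevalleyStructure.CoxeterGeomTypes Cfsg.Agent.ChevalleyStructure.NPerm
open Cfsg.Agent.Tits.Roots Cfsg.Agent.Tits.Core Cfsg.Agent.Nodes Cfsg.Agent.Nodes.Reps Cfsg.Agent.Nodes.BNOf
  Cfsg.Agent.Nodes.RGDChev Cfsg.Agent.Nodes.Bruhat Cfsg.Agent.Nodes.SubComb Cfsg.Agent.Nodes.Coroot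
open Cfsg.Agent.KFacts.RgdField Cfsg.Agent.KFacts.RgdChevCoord Cfsg.Agent.BpExc.TorCent Cfsg.Agent.BpExc.TorChev
open Cfsg.Agent.GpExc.Field Cfsg.Agent.BpExc.Tow Cfsg.Agent.BpExc.TowChev Cfsg.Agent.BpExc.Fr
  Cfsg.Agent.BpExc.LangFr Cfsg.Agent.LangThm Cfsg.Agent.BpExc Cfsg.Agent.H129.TorusChar Cfsg.Agent.H129.TorusCent
  Cfsg.Agent.H129.TorusTw Cfsg.Agent.H129.TorusMain Cfsg.Agent.H129.TorusUntw Cfsg.Agent.H129.WForm
  Cfsg.Agent.BpExc.EmbSplit

universe u v

section Desc

variable {D : ChevalleyDatum} {l : ℕ} {M : CoxeterMatrix (Fin l)} (hp : IsType D l M) {F k : Type u} [Field F]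
  [Field k] (f : F →+* k)

include hp in
/-- **Descent of the torus**, in `GL`. -/
theorem mem_diagonal_of_glMap {g : GL D.Idx F} (hg : g ∈ D.group F) (h : glMap D f g ∈ D.diagonalSubgroup k) :
    g ∈ D.diagonalSubgroup F := by
  have hD := hp.inList
  obtain ⟨u, hu, m, hm, v, hv, rfl, hmv⟩ := FixNorm.exists_form hD hg
  have h1 : glMap D f m * glMap D f v * (glMap D f m)⁻¹ ∈ D.negUnipotent k := by
    rw [← map_mul, ← map_inv, ← map_mul]
    exact Emb.glMap_neg hD f hmv
  obtain ⟨h2, h3, h4⟩ := FixNorm.form_unique hD (Emb.glMap_pos hD f hu)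
    (Emb.glMap_mono hD f hm) (Emb.glMap_pos hD f hv) h1
    (one_mem (D.posUnipotent k)) (diagonal_le_monomial D k h) (one_mem (D.posUnipotent k))
    (by rw [mul_one, mul_inv_cancel]; exact one_mem _)
    (by rw [one_mul, mul_one, map_mul, map_mul])
  have hinj := glMap_injective D f
  have hu1 : u = 1 := hinj (by rw [h2, map_one])
  have hv1 : v = 1 := hinj (by rw [h4, map_one])
  subst hu1 hv1
  rw [one_mul, mul_one] at h ⊢
  obtain ⟨w, hw⟩ := exists_rel hp M.toCoxeterSystem hm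
  have hw1 : w = 1 := by
    refine ChevalleyStructure.CoxeterGeom.eq_one_of_fix M.toCoxeterSystem hp.isCartan w fun j => ?_
    show rep M.toCoxeterSystem hp.isCartan w (sr j) = sr j
    obtain ⟨s, hs, h5, h6⟩ := hw.conj j
    obtain ⟨a, ha⟩ := h6 1
    have hj : D.simple j < D.nroots := simple_lt hD (lt_rank hp j)
    -- the image in `GL(k)`
    have h7 := congrArg (glMap D f) ha
    rw [map_mul, map_mul, map_inv, glMap_xG, glMap_xG, map_one] at h7
    obtain ⟨c, hc0, hc⟩ := BNChev.diagonal_conj hD h hj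
    rw [hc, mul_one] at h7
    have h8 := congrArg (fun g : GL D.Idx k => (g : Matrix D.Idx D.Idx k) (Sum.inr ⟨D.simple j, hj⟩)
      (Sum.inr ⟨D.neg (D.simple j), neg_lt hD hj⟩)) h7
    simp only [coe_xG] at h8
    rw [x_entry_self hD hj] at h8
    rw [← h5, ← vec_simple hp j]
    by_contra hne
    rw [x_entry_ne hD hj hs (fun h => hne (by rw [h]))] at h8
    exact hc0 (by simpa using h8)
  subst hw1
  exact mem_of_rel_one hw

include hp in
/-- **Descent of the torus.** -/
theorem mem_TT_of_emb {y : ↥(D.group F)} (h : emb hp.inList f y ∈ TT D k) : y ∈ TT D F := by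
  rw [Subgroup.mem_subgroupOf] at h ⊢
  rw [coe_emb] at h
  exact mem_diagonal_of_glMap hp f y.2 h

/-- the characters of the image of a torus element -/
theorem cX_emb {y : ↥(D.group F)} (hy : y ∈ TT D F) (x : Fin l → ℤ) :
    cX hp (emb hp.inList f y) x = f (cX hp y x) := by
  unfold cX
  rw [map_prod]
  refine Finset.prod_congr rfl fun i _ => ?_
  rw [map_zpow₀, ← vec_simple hp i, emb_ch hp f (simple_lt hp.inList (lt_rank hp i)) hy]

end Desc

section Seven

variable {F k : Type u} [Field F] [Field k] (f : F →+* k)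

theorem even_row : ∀ i : Fin 7, (2 : ℤ) ∣ chevE7.cartan i (chevE7.simple 1) + chevE7.cartan i (chevE7.simple 4) +
    chevE7.cartan i (chevE7.simple 6) := by decide +kernel

/-- the value at `α₂ + α₅ + α₇` of an element of the torus of the finite group -/
theorem square_of_TT {y : ↥(chevE7.group F)} (hy : y ∈ TT chevE7 F) :
    ∃ b : F, cX hp7 y (sr 1) * cX hp7 y (sr 4) * cX hp7 y (sr 6) = b ^ 2 := by
  have hy' := hy
  rw [Subgroup.mem_subgroupOf] at hy'
  obtain ⟨c, hc, -, hact⟩ := Cfsg.Agent.H129.Tor.exists_c hp7 hy'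
  have key : ∀ i : Fin 7, cX hp7 y (sr i) = ∏ j ∈ Finset.range chevE7.rank, c j ^ chevE7.cartan j (chevE7.simple i) := by
    intro i
    have hi : chevE7.simple i < chevE7.nroots := simple_lt hp7.inList (lt_rank hp7 i)
    rw [cX_sr, ← vec_simple hp7 i]
    apply ch_eq hp7 hi hy
    apply Subtype.ext
    rw [Subgroup.coe_mul, Subgroup.coe_mul, Subgroup.coe_inv, coe_xc hp7 hi, coe_xc hp7 hi, hact _ hi, mul_one]
  rw [key, key, key, ← Finset.prod_mul_distrib, ← Finset.prod_mul_distrib]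
  have h1 : ∀ j ∈ Finset.range chevE7.rank, ∃ b : F, c j ^ chevE7.cartan j (chevE7.simple (1 : Fin 7)) *
      c j ^ chevE7.cartan j (chevE7.simple (4 : Fin 7)) * c j ^ chevE7.cartan j (chevE7.simple (6 : Fin 7)) = b ^ 2 := by
    intro j hj
    have hj' : j < 7 := by
      have := Finset.mem_range.1 hj
      rwa [hp7.rank_eq] at this
    obtain ⟨a, ha⟩ := even_row ⟨j, hj'⟩
    have hcj := hc j (Finset.mem_range.1 hj)
    refine ⟨c j ^ a, ?_⟩
    rw [← zpow_add₀ hcj, ← zpow_add₀ hcj]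
    have h2 : chevE7.cartan j (chevE7.simple (1 : Fin 7)) + chevE7.cartan j (chevE7.simple (4 : Fin 7)) +
      chevE7.cartan j (chevE7.simple (6 : Fin 7)) = 2 * a := ha
    rw [h2, mul_comm, zpow_mul]
    norm_cast
  choose! b hb using h1
  exact ⟨∏ j ∈ Finset.range chevE7.rank, b j, by rw [← Finset.prod_pow]; exact Finset.prod_congr rfl hb⟩

/-- **Parity.** -/
theorem parity {t : ↥(chevE7.group k)} (ht : t ∈ TT chevE7 k) (hr : t ∈ (emb hp7.inList f).range) :
    ∃ b : F, cX hp7 t (sr 1) * cX hp7 t (sr 4) * cX hp7 t (sr 6) = f b ^ 2 := by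
  obtain ⟨y, rfl⟩ := hr
  have hy := mem_TT_of_emb hp7 f ht
  obtain ⟨b, hb⟩ := square_of_TT hy
  refine ⟨b, ?_⟩
  rw [cX_emb hp7 f hy, cX_emb hp7 f hy, cX_emb hp7 f hy, ← map_mul, ← map_mul, hb, map_pow]

end Seven

/-! ### the index in the fixed points (copied from `H129.HalfT`) -/

/-- a subgroup of index at most two -/
theorem mul_mem_of_card {Y : Type*} [Group Y] {R S : Subgroup Y} (hRS : R ≤ S) (hS : Finite ↥S)
    (hc : Nat.card ↥S ≤ 2 * Nat.card ↥R) {a b : Y} (ha : a ∈ S) (hb : b ∈ S) (ha' : a ∉ R) (hb' : b ∉ R) :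
    a * b ∈ R := by
  have h1 : Nat.card ↥(R.subgroupOf S) * (R.subgroupOf S).index = Nat.card ↥S := Subgroup.card_mul_index _
  have h2 : Nat.card ↥(R.subgroupOf S) = Nat.card ↥R := Nat.card_congr (Subgroup.subgroupOfEquivOfLe hRS).toEquiv
  rw [h2] at h1
  have hR0 : 0 < Nat.card ↥R := by
    rw [← h2]; exact Nat.card_pos
  have h3 : (R.subgroupOf S).index ≤ 2 := by
    rw [← h1, mul_comm 2] at hc
    exact Nat.le_of_mul_le_mul_left hc hR0
  have h4 : (R.subgroupOf S).index ≠ 0 := Subgroup.index_ne_zero_of_finite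
  have h5 : (R.subgroupOf S).index ≠ 1 := by
    intro h
    apply ha'
    have h6 := Subgroup.index_eq_one.1 h
    have h7 : (⟨a, ha⟩ : ↥S) ∈ R.subgroupOf S := by rw [h6]; trivial
    exact Subgroup.mem_subgroupOf.1 h7
  have h6 : (R.subgroupOf S).index = 2 := by omega
  have h7 := Subgroup.mul_mem_iff_of_index_two h6 (a := ⟨a, ha⟩) (b := ⟨b, hb⟩)
  have h8 : (⟨a, ha⟩ : ↥S) ∉ R.subgroupOf S := fun h => ha' (Subgroup.mem_subgroupOf.1 h)
  have h9 : (⟨b, hb⟩ : ↥S) ∉ R.subgroupOf S := fun h => hb' (Subgroup.mem_subgroupOf.1 h)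
  exact Subgroup.mem_subgroupOf.1 (h7.2 (iff_of_false h8 h9))

section

variable {D : ChevalleyDatum} {l : ℕ} {M : CoxeterMatrix (Fin l)} (hp : IsType D l M)
  {W : Type*} [Group W] (cs : CoxeterSystem M W) {k : Type u} [Field k] [IsAlgClosed k] {p e : ℕ} [Fact p.Prime]
  [CharP k p] {F : Type u} [Field F] [Fintype F] (f : F →+* k)

/-- the fixed points of the torus -/
def Sfix (D : ChevalleyDatum) (k : Type u) [Field k] (σ : MulAut ↥(D.group k)) : Subgroup ↥(D.group k) where
  carrier := {t | t ∈ TT D k ∧ σ t = t}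
  one_mem' := ⟨one_mem _, map_one _⟩
  mul_mem' := fun ha hb => ⟨mul_mem ha.1 hb.1, by rw [map_mul, ha.2, hb.2]⟩
  inv_mem' := fun ha => ⟨inv_mem ha.1, by rw [map_inv, ha.2]⟩

include hp cs f in
theorem card_Sfix (hq : Fintype.card F = p ^ e) : Finite ↥(Sfix D k (phi D k p e)) ∧
    Nat.card ↥(Sfix D k (phi D k p e)) ≤ (Fintype.card F - 1) ^ l := by
  have h1 : ∀ t : ↥(Sfix D k (phi D k p e)), ∃ b : Fin l → Fˣ, ∀ i, f (b i) = cX hp (t : ↥(D.group k)) (sr i) := by
    intro t
    have h2 : ∀ i : Fin l, ∃ b : Fˣ, f b = cX hp (t : ↥(D.group k)) (sr i) := by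
      intro i
      obtain ⟨b, hb⟩ := fix_cX hp cs f hq t.2.1 t.2.2 (sr i)
      have hb0 : b ≠ 0 := by
        rintro rfl
        rw [map_zero] at hb
        exact (isMC_cX hp t.2.1).ne_zero _ hb.symm
      exact ⟨Units.mk0 b hb0, hb⟩
    choose b hb using h2
    exact ⟨b, hb⟩
  choose b hb using h1
  have hinj : Function.Injective b := by
    intro s t hst
    refine Subtype.ext (cX_inj hp s.2.1 t.2.1 fun i => ?_)
    rw [← hb, ← hb, hst]
  have hfin : Finite (Fin l → Fˣ) := inferInstance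
  refine ⟨Finite.of_injective b hinj, (Nat.card_le_card_of_injective b hinj).trans_eq ?_⟩
  classical
  rw [Nat.card_fun, Nat.card_fin, Nat.card_eq_fintype_card, Fintype.card_units]

include cs in
/-- **The image of the finite group has index two in the fixed points.** -/
theorem mul_mem_range (hq : Fintype.card F = p ^ e)
    (hcard : 2 * Nat.card (D.diagonalSubgroup F) = (Fintype.card F - 1) ^ l) {a b : ↥(D.group k)}
    (ha : phi D k p e a = a) (hb : phi D k p e b = b) (ha' : a ∉ (emb hp.inList f).range)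
    (hb' : b ∉ (emb hp.inList f).range) : a * b ∈ (emb hp.inList f).range := by
  obtain ⟨x, t, ht, rfl⟩ := fix_split hp f hq ha
  obtain ⟨y, s, hs, rfl⟩ := fix_split hp f hq hb
  have hft : phi D k p e t = t := by
    rw [map_mul, phi_emb hp f hq] at ha
    exact mul_left_cancel ha
  have hfs : phi D k p e s = s := by
    rw [map_mul, phi_emb hp f hq] at hb
    exact mul_left_cancel hb
  have ht' : t ∉ (emb hp.inList f).range := fun h => ha' (mul_mem ⟨x, rfl⟩ h)
  have hs' : s ∉ (emb hp.inList f).range := fun h => hb' (mul_mem ⟨y, rfl⟩ h)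
  obtain ⟨hfin, hle⟩ := card_Sfix hp cs f (k := k) hq
  have hRS : (TT D F).map (emb hp.inList f) ≤ Sfix D k (phi D k p e) := by
    rintro _ ⟨y, hy, rfl⟩
    exact ⟨emb_T hp f ⟨y, hy, rfl⟩, phi_emb hp f hq y⟩
  have hR : Nat.card ↥((TT D F).map (emb hp.inList f)) = Nat.card (D.diagonalSubgroup F) := by
    rw [Subgroup.card_map_of_injective (emb_injective hp.inList f)]
    exact Nat.card_congr (Subgroup.subgroupOfEquivOfLe (diagonal_le_group hp.inList F)).toEquiv
  have h1 : t * s ∈ (TT D F).map (emb hp.inList f) := by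
    refine mul_mem_of_card hRS hfin (by rw [hR, hcard]; exact hle) ⟨ht, hft⟩ ⟨hs, hfs⟩ (fun h => ht' ?_)
      (fun h => hs' ?_)
    · obtain ⟨z, -, hz⟩ := h; exact ⟨z, hz⟩
    · obtain ⟨z, -, hz⟩ := h; exact ⟨z, hz⟩
  have h2 : t * s ∈ (emb hp.inList f).range := by
    obtain ⟨z, -, hz⟩ := h1; exact ⟨z, hz⟩
  have h3 : t * emb hp.inList f y * t⁻¹ ∈ (emb hp.inList f).range :=
    Emb.conj_mem_range (F := F) (hD := hp.inList) (f := f) (φ := iterateFrobenius k p e)
      (fun t => by rw [iterateFrobenius_def, hq]) (σ := phi D k p e) coe_phi hft ⟨y, rfl⟩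
  have e1 : emb hp.inList f x * t * (emb hp.inList f y * s) =
      emb hp.inList f x * (t * emb hp.inList f y * t⁻¹) * (t * s) := by group
  rw [e1]
  exact mul_mem (mul_mem ⟨x, rfl⟩ h3) h2

end


section Idx

variable {k : Type u} [Field k] [IsAlgClosed k] {p e : ℕ} [Fact p.Prime] [CharP k p] {F : Type u} [Field F] [Fintype F]
  (f : F →+* k)

/-- **Index two.** -/
theorem mul_mem_range7 (hq : Fintype.card F = p ^ e) (hodd : Odd (Fintype.card F)) {a b : ↥(chevE7.group k)}
    (ha : phi chevE7 k p e a = a) (hb : phi chevE7 k p e b = b) (ha' : a ∉ (emb hp7.inList f).range)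
    (hb' : b ∉ (emb hp7.inList f).range) : a * b ∈ (emb hp7.inList f).range := by
  refine mul_mem_range hp7 CoxeterMatrix.E₇.toCoxeterSystem f hq ?_ ha hb ha' hb'
  have h1 := Cfsg.Agent.S1035.result (F := F) rfl (chevE7, Nat.gcd 2 (Fintype.card F - 1)) (by simp)
  have h2 : Nat.gcd 2 (Fintype.card F - 1) = 2 := by
    obtain ⟨m, hm⟩ := hodd
    rw [hm]
    exact Nat.gcd_eq_left (by omega)
  simp only [h2] at h1
  rw [h1]
  rfl

end Idx

end Cfsg.Agent.H351.UnfE7
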