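import Mathlib
import Cfsg.Agent.H238.SL2Key

/-!
# Elements of trace zero of `SL₂` (helper351, S3026)

* `hom_ext` : homomorphisms from `SL₂(k)` are determined on the elementary matrices;
* `isConj_of_trace` : two elements of trace zero of `SL₂(k)`, `k` algebraically closed, `2 ≠ 0`, are conjugate;
* `sum_sq` : every element of a finite field of odd characteristic is a sum of two squares.
-/

set_option autoImplicit false

namespace Cfsg.Agent.H351.UnfE7

open Matrix
open Cfsg.Agent.H238.SL2Key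

universe u v

section

variable {k : Type u} [Field k]

/-- the generation by elementary matrices -/
theorem exists_form {g : SpecialLinearGroup (Fin 2) k} (hc : mm g 1 0 ≠ 0) :
    ∃ x y : k, g = U x * V (mm g 1 0) * U y := by
  have hdet : mm g 0 0 * mm g 1 1 - mm g 0 1 * mm g 1 0 = 1 := by
    have := g.2
    rw [det_fin_two] at this
    exact this
  refine ⟨(mm g 0 0 - 1) / mm g 1 0, (mm g 1 1 - 1) / mm g 1 0, ext2 ?_⟩
  rw [mm_mul, mm_mul, coe_U, coe_V, coe_U]
  obtain ⟨c, hcd⟩ : ∃ c, c = mm g 1 0 := ⟨_, rfl⟩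
  rw [← hcd] at hc hdet ⊢
  ext i j
  fin_cases i <;> fin_cases j <;> simp [Matrix.mul_apply, Fin.sum_univ_two]
  · field_simp; ring
  · field_simp
    linear_combination -hdet
  · exact hcd.symm
  · field_simp; ring

theorem hom_ext {G : Type v} [Monoid G] {α β : SpecialLinearGroup (Fin 2) k →* G} (hU : ∀ s, α (U s) = β (U s))
    (hV : ∀ s, α (V s) = β (V s)) : α = β := by
  have key : ∀ g : SpecialLinearGroup (Fin 2) k, mm g 1 0 ≠ 0 → α g = β g := by
    intro g hg
    obtain ⟨x, y, h⟩ := exists_form hg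
    rw [h, map_mul, map_mul, map_mul, map_mul, hU, hU, hV]
  apply MonoidHom.ext
  intro g
  by_cases hg : mm g 1 0 = 0
  · have hdet : mm g 0 0 * mm g 1 1 - mm g 0 1 * mm g 1 0 = 1 := by
      have := g.2
      rw [det_fin_two] at this
      exact this
    have ha : mm g 0 0 ≠ 0 := by
      intro h0
      rw [hg, h0] at hdet
      simp at hdet
    have h1 : mm (V 1 * g) 1 0 ≠ 0 := by
      rw [mm_mul, coe_V]
      simp [Matrix.mul_apply, Fin.sum_univ_two, hg, ha]
    have h2 := key _ h1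
    have h3 : g = V (-1) * (V 1 * g) := by
      rw [← mul_assoc, ← V_add, neg_add_cancel, V_zero, one_mul]
    calc α g = α (V (-1)) * α (V 1 * g) := by rw [← map_mul, ← h3]
      _ = β (V (-1)) * β (V 1 * g) := by rw [h2, hV]
      _ = β g := by rw [← map_mul, ← h3]
  · exact key g hg

/-- `[[0, -1], [1, 0]]` -/
def m0 (k : Type u) [Field k] : SpecialLinearGroup (Fin 2) k := ⟨!![0, -1; 1, 0], by simp [det_fin_two]⟩

theorem coe_m0 : mm (m0 k) = !![0, -1; 1, 0] := rfl

/-- a matrix with given first column `v` and second column `M v` -/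
theorem conj_m0 {M : SpecialLinearGroup (Fin 2) k} (ht : mm M 0 0 + mm M 1 1 = 0) {x y : k}
    (hd : x * (mm M 1 0 * x + mm M 1 1 * y) - y * (mm M 0 0 * x + mm M 0 1 * y) = 1) :
    ∃ P : SpecialLinearGroup (Fin 2) k, M = P * m0 k * P⁻¹ := by
  have hdet : mm M 0 0 * mm M 1 1 - mm M 0 1 * mm M 1 0 = 1 := by
    have := M.2
    rw [det_fin_two] at this
    exact this
  obtain ⟨P, hP⟩ : ∃ P : SpecialLinearGroup (Fin 2) k,
      mm P = !![x, mm M 0 0 * x + mm M 0 1 * y; y, mm M 1 0 * x + mm M 1 1 * y] := by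
    refine ⟨⟨!![x, mm M 0 0 * x + mm M 0 1 * y; y, mm M 1 0 * x + mm M 1 1 * y], ?_⟩, rfl⟩
    rw [det_fin_two]
    simp
    linear_combination hd
  refine ⟨P, ?_⟩
  · rw [eq_mul_inv_iff_mul_eq]
    refine ext2 ?_
    rw [mm_mul, mm_mul, coe_m0, hP]
    obtain ⟨a, ha⟩ : ∃ a, a = mm M 0 0 := ⟨_, rfl⟩
    obtain ⟨b, hb⟩ : ∃ b, b = mm M 0 1 := ⟨_, rfl⟩
    obtain ⟨c, hc⟩ : ∃ c, c = mm M 1 0 := ⟨_, rfl⟩
    obtain ⟨d, hd'⟩ : ∃ d, d = mm M 1 1 := ⟨_, rfl⟩
    have hM : mm M = !![a, b; c, d] := by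
      rw [ha, hb, hc, hd']
      ext i j
      fin_cases i <;> fin_cases j <;> rfl
    rw [← ha, ← hd'] at ht
    rw [← ha, ← hb, ← hc, ← hd'] at hdet
    rw [← ha, ← hb, ← hc, ← hd', hM]
    have hda : d = -a := by linear_combination ht
    subst hda
    ext i j
    fin_cases i <;> fin_cases j <;> simp [Matrix.mul_apply, Fin.sum_univ_two]
    · linear_combination -x * hdet
    · linear_combination -y * hdet

/-- **Elements of trace zero.** -/
theorem isConj_m0 [IsAlgClosed k] (h2 : (2 : k) ≠ 0) {M : SpecialLinearGroup (Fin 2) k} (ht : mm M 0 0 + mm M 1 1 = 0) :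
    ∃ P : SpecialLinearGroup (Fin 2) k, M = P * m0 k * P⁻¹ := by
  have hdet : mm M 0 0 * mm M 1 1 - mm M 0 1 * mm M 1 0 = 1 := by
    have := M.2
    rw [det_fin_two] at this
    exact this
  -- scaling
  have key : ∀ x y : k, x * (mm M 1 0 * x + mm M 1 1 * y) - y * (mm M 0 0 * x + mm M 0 1 * y) ≠ 0 →
      ∃ P : SpecialLinearGroup (Fin 2) k, M = P * m0 k * P⁻¹ := by
    intro x y h
    obtain ⟨z, hz⟩ := IsAlgClosed.exists_pow_nat_eq
      (x * (mm M 1 0 * x + mm M 1 1 * y) - y * (mm M 0 0 * x + mm M 0 1 * y))⁻¹ (n := 2) (by norm_num)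
    refine conj_m0 ht (x := z * x) (y := z * y) ?_
    have h1 : z * x * (mm M 1 0 * (z * x) + mm M 1 1 * (z * y)) - z * y * (mm M 0 0 * (z * x) + mm M 0 1 * (z * y)) =
        z ^ 2 * (x * (mm M 1 0 * x + mm M 1 1 * y) - y * (mm M 0 0 * x + mm M 0 1 * y)) := by ring
    rw [h1, hz, inv_mul_cancel₀ h]
  by_cases hc : mm M 1 0 = 0
  · by_cases hb : mm M 0 1 = 0
    · refine key 1 1 ?_
      rw [hc, hb]
      have ha : mm M 0 0 ≠ 0 := by
        intro h0
        rw [h0, hb] at hdet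
        simp at hdet
      have hd : mm M 1 1 = - mm M 0 0 := by linear_combination ht
      rw [hd]
      have : (1 : k) * (0 * 1 + -mm M 0 0 * 1) - 1 * (mm M 0 0 * 1 + 0 * 1) = -(2 * mm M 0 0) := by ring
      rw [this]
      exact neg_ne_zero.2 (mul_ne_zero h2 ha)
    · refine key 0 1 ?_
      simp [hb]
  · refine key 1 0 ?_
    simp [hc]

/-- **Sums of two squares.** -/
theorem sum_sq {F : Type u} [Field F] [Fintype F] (h2 : (2 : F) ≠ 0) (x : F) : ∃ a b : F, a ^ 2 + b ^ 2 = x := by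
  have hodd : Fintype.card F % 2 = 1 := by
    obtain ⟨p, hp⟩ := CharP.exists F
    have hpp : Fact p.Prime := ⟨CharP.char_is_prime F p⟩
    obtain ⟨n, -, hn⟩ := FiniteField.card F p
    rw [hn]
    have hp2 : p ≠ 2 := by
      rintro rfl
      apply h2
      have := CharP.cast_eq_zero F 2
      exact_mod_cast this
    exact Nat.odd_iff.1 ((hpp.out.odd_of_ne_two hp2).pow)
  obtain ⟨a, b, hab⟩ := FiniteField.exists_root_sum_quadratic (R := F) (f := Polynomial.X ^ 2)
    (g := Polynomial.X ^ 2 - Polynomial.C x) (Polynomial.degree_X_pow 2)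
    (Polynomial.degree_X_pow_sub_C (by decide) _) hodd
  refine ⟨a, b, ?_⟩
  simp only [Polynomial.eval_pow, Polynomial.eval_X, Polynomial.eval_sub, Polynomial.eval_C] at hab
  linear_combination hab

end

end Cfsg.Agent.H351.UnfE7
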