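import Cfsg.Agent.H351.UnfE7.Toral
import Cfsg.Agent.H351.UnfE7.Sl2
import Cfsg.Agent.H238.ExcCore

/-!
# The diagonal `SL₂` of a set of orthogonal roots of `E₇` (helper351, S3026)

* `phr K r : SL₂(K) →* E₇(K)`, the `SL₂` of the root with index `r`; `emb_phr` : field embeddings; `phr_comm` : orthogonal
  roots; `phr_H` : the diagonal elements;
* `Phi K hL` : the product over a list `L` of orthogonal roots; `Phi_H` : the diagonal elements.
-/

set_option autoImplicit false
set_option linter.unusedSectionVars false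

namespace Cfsg.Agent.H351.UnfE7

open CoxeterSystem Cfsg Cfsg.Lie Cfsg.Lie.ChevalleyDatum
open Cfsg.Agent.ChevalleyStructure Cfsg.Agent.ChevalleyStructure.Elts Cfsg.Agent.ChevalleyStructure.CoxeterGeom
  Cfsg.Agent.ChevalleyStructure.CoxeterGeomTypes Cfsg.Agent.ChevalleyStructure.NPerm
open Cfsg.Agent.Tits.Roots Cfsg.Agent.Tits.Core Cfsg.Agent.Nodes Cfsg.Agent.Nodes.Reps Cfsg.Agent.Nodes.BNOf
  Cfsg.Agent.Nodes.RGDChev Cfsg.Agent.Nodes.Bruhat Cfsg.Agent.Nodes.SubComb Cfsg.Agent.Nodes.Coroot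
open Cfsg.Agent.KFacts.RgdField Cfsg.Agent.KFacts.RgdChevCoord Cfsg.Agent.BpExc.TorCent Cfsg.Agent.BpExc.TorChev
open Cfsg.Agent.GpExc.Field Cfsg.Agent.BpExc.Tow Cfsg.Agent.BpExc.TowChev Cfsg.Agent.BpExc.Fr
  Cfsg.Agent.BpExc.LangFr Cfsg.Agent.LangThm Cfsg.Agent.BpExc Cfsg.Agent.H129.TorusChar Cfsg.Agent.H129.TorusCent
  Cfsg.Agent.H129.TorusTw Cfsg.Agent.H129.TorusMain Cfsg.Agent.H129.TorusUntw Cfsg.Agent.H129.WForm
  Cfsg.Agent.H720.TorusReal Cfsg.Agent.H129
open Cfsg.Agent.H238 Cfsg.Agent.H238.SL2Key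
open Matrix (SpecialLinearGroup)

universe u v

/-! ### the form -/

theorem A7_symm : ∀ i j, A7 i j = A7 j i := by decide +kernel

theorem ip_add_left (x x' y : V) : ip (x + x') y = ip x y + ip x' y := by
  unfold ip
  simp only [Pi.add_apply, mul_add, Finset.sum_add_distrib]

theorem ip_smul_left (m : ℤ) (x y : V) : ip (m • x) y = m * ip x y := by
  unfold ip
  simp only [Pi.smul_apply, smul_eq_mul, Finset.mul_sum]
  refine Finset.sum_congr rfl fun i _ => Finset.sum_congr rfl fun j _ => ?_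
  ring

theorem ip_comm (x y : V) : ip x y = ip y x := by
  unfold ip
  simp only [Finset.mul_sum]
  rw [Finset.sum_comm]
  refine Finset.sum_congr rfl fun i _ => Finset.sum_congr rfl fun j _ => ?_
  rw [A7_symm]
  ring

theorem ip_comb (a b : V) (m n : ℕ) : ip (m • a + n • b) (m • a + n • b) =
    m ^ 2 * ip a a + 2 * m * n * ip a b + n ^ 2 * ip b b := by
  rw [← natCast_zsmul, ← natCast_zsmul, ip_add_left, ip_smul_left, ip_smul_left, ip_comm a, ip_comm b, ip_add_left,
    ip_add_left, ip_smul_left, ip_smul_left, ip_smul_left, ip_smul_left, ip_comm b a]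
  ring

theorem ip_self {W : Type*} [Group W] [Finite W] (cs : CoxeterSystem CoxeterMatrix.E₇ W) {x : V}
    (hx : IsRoot cs hp7.isCartan x) : ip x x = 2 := by
  rw [← cpr_ip (cs := cs) _ hx, cpr_self cs _ hx]

/-! ### the homomorphisms -/

section

variable (K : Type u) [Field K]

/-- The `SL₂` of a root. -/
noncomputable def phr (r : ℕ) : SpecialLinearGroup (Fin 2) K →* ↥(chevE7.group K) := by
  classical
  exact if h : r < chevE7.nroots then Classical.choose (ExcCore.exists_sl2 (k := K) hp7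
    CoxeterMatrix.E₇.toCoxeterSystem (isRoot_vec hp7 CoxeterMatrix.E₇.toCoxeterSystem h)) else 1

theorem phr_spec {r : ℕ} (h : r < chevE7.nroots) :
    (∀ s, phr K r (U s) = xc hp7 (vec chevE7 7 r) s) ∧ (∀ s, phr K r (SL2Key.V s) = xc hp7 (-vec chevE7 7 r) s) ∧
      (phr K r).range ≤ XX chevE7 7 K (vec chevE7 7 r) ⊔ XX chevE7 7 K (-vec chevE7 7 r) := by
  unfold phr
  rw [dif_pos h]
  exact Classical.choose_spec (ExcCore.exists_sl2 (k := K) hp7
    CoxeterMatrix.E₇.toCoxeterSystem (isRoot_vec hp7 CoxeterMatrix.E₇.toCoxeterSystem h))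

variable {K}

theorem mm_map {K' : Type v} [Field K'] (f : K →+* K') (g : SpecialLinearGroup (Fin 2) K) (i j : Fin 2) :
    mm (SpecialLinearGroup.map f g) i j = f (mm g i j) := rfl

theorem map_U {K' : Type v} [Field K'] (f : K →+* K') (s : K) : SpecialLinearGroup.map f (U s) = U (f s) := by
  refine ext2 ?_
  ext i j
  rw [mm_map, coe_U, coe_U]
  fin_cases i <;> fin_cases j <;> simp

theorem map_V {K' : Type v} [Field K'] (f : K →+* K') (s : K) :
    SpecialLinearGroup.map f (SL2Key.V s) = SL2Key.V (f s) := by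
  refine ext2 ?_
  ext i j
  rw [mm_map, coe_V, coe_V]
  fin_cases i <;> fin_cases j <;> simp

/-- **Field embeddings.** -/
theorem emb_phr {K' : Type u} [Field K'] (f : K →+* K') {r : ℕ} (h : r < chevE7.nroots)
    (g : SpecialLinearGroup (Fin 2) K) : emb hp7.inList f (phr K r g) = phr K' r (SpecialLinearGroup.map f g) := by
  have h1 : (emb hp7.inList f).comp (phr K r) = (phr K' r).comp (SpecialLinearGroup.map f) := by
    refine hom_ext (fun s => ?_) fun s => ?_
    · rw [MonoidHom.comp_apply, MonoidHom.comp_apply, (phr_spec K h).1, map_U, (phr_spec K' h).1, emb_xc]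
    · rw [MonoidHom.comp_apply, MonoidHom.comp_apply, (phr_spec K h).2.1, map_V, (phr_spec K' h).2.1, emb_xc]
  exact DFunLike.congr_fun h1 g

/-- **Orthogonal roots.** -/
theorem phr_comm {r s : ℕ} (hr : r < chevE7.nroots) (hs : s < chevE7.nroots)
    (h0 : ip (vec chevE7 7 r) (vec chevE7 7 s) = 0) (g h : SpecialLinearGroup (Fin 2) K) :
    Commute (phr K r g) (phr K s h) := by
  have hfin := finite_W hp7 CoxeterMatrix.E₇.toCoxeterSystem
  have ha := isRoot_vec hp7 CoxeterMatrix.E₇.toCoxeterSystem hr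
  have hb := isRoot_vec hp7 CoxeterMatrix.E₇.toCoxeterSystem hs
  have haa := ip_self _ ha
  have hbb := ip_self _ hb
  refine ExcCore.commute_sup hp7 CoxeterMatrix.E₇.toCoxeterSystem ha hb ?_ ?_ ?_ ?_
    ((phr_spec K hr).2.2 ⟨g, rfl⟩) ((phr_spec K hs).2.2 ⟨h, rfl⟩)
  · intro e
    rw [e, hbb] at h0
    norm_num at h0
  · intro e
    have h1 := ip_smul_left (-1) (vec chevE7 7 s) (vec chevE7 7 s)
    rw [neg_one_smul, ← e, h0, hbb] at h1
    norm_num at h1
  · rw [cpr_ip (cs := CoxeterMatrix.E₇.toCoxeterSystem) _ ha, ip_comm, h0]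
  · intro m n hm hn hroot
    have h1 := ip_self _ hroot
    rw [ip_comb, h0, haa, hbb] at h1
    have h2 : (1 : ℤ) ≤ m := by exact_mod_cast hm
    have h3 : (1 : ℤ) ≤ n := by exact_mod_cast hn
    nlinarith

/-- **The diagonal elements.** -/
theorem phr_H {r : ℕ} (hr : r < chevE7.nroots) {s : K} (hs : s ≠ 0) :
    phr K r (H s hs) ∈ TT chevE7 K ∧
      ∀ i : Fin 7, cX hp7 (phr K r (H s hs)) (sr i) = s ^ Strings.cartanR chevE7 r (chevE7.simple i) := by
  have hneg : chevE7.neg r < chevE7.nroots := neg_lt hp7.inList hr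
  have h1 : H s hs = U s * SL2Key.V (-s⁻¹) * U s * (U (-1) * SL2Key.V 1 * U (-1)) := by
    refine ext2 ?_
    rw [mm_mul, mm_mul, mm_mul, mm_mul, mm_mul, coe_H, coe_U, coe_U, coe_V, coe_V]
    ext i j
    fin_cases i <;> fin_cases j <;> simp [Matrix.mul_apply, Fin.sum_univ_two, hs]
  have h2 : ((phr K r (H s hs) : ↥(chevE7.group K)) : GL chevE7.Idx K) = hG hp7.inList r s := by
    rw [h1]
    simp only [map_mul, (phr_spec K hr).1, (phr_spec K hr).2.1, Subgroup.coe_mul, ← vec_neg hp7 hr, coe_xc hp7 hr,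
      coe_xc hp7 hneg]
    rw [hG_def, nG_def, nG_def, show (-(-1 : K)⁻¹) = 1 by norm_num]
    simp only [mul_assoc]
  have hT : phr K r (H s hs) ∈ TT chevE7 K := by
    rw [Subgroup.mem_subgroupOf, h2]
    exact hG_mem_diagonal hp7.inList hr hs
  refine ⟨hT, fun i => ?_⟩
  obtain ⟨c, hc, hmat, hact⟩ := Tor.exists_c hp7 (hG_mem_diagonal hp7.inList hr hs)
  rw [coe_hG, StringMem.hMat_eq hp7.inList hr hs] at hmat
  have hi : chevE7.simple i < chevE7.nroots := simple_lt hp7.inList (lt_rank hp7 i)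
  have h3 := congrFun (Matrix.diagonal_injective hmat) (Sum.inr ⟨chevE7.simple i, hi⟩)
  have h4 : s ^ Strings.cartanR chevE7 r (chevE7.simple i) =
      ∏ j ∈ Finset.range chevE7.rank, c j ^ chevE7.cartan j (chevE7.simple i) := h3
  rw [cX_sr, ← vec_simple hp7 i]
  apply ch_eq hp7 hi hT
  apply Subtype.ext
  rw [Subgroup.coe_mul, Subgroup.coe_mul, Subgroup.coe_inv, coe_xc hp7 hi, coe_xc hp7 hi, h2, hact _ hi, h4, mul_one]

/-! ### lists of orthogonal roots -/

/-- a list of orthogonal roots -/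
def OrthL (L : List ℕ) : Prop :=
  (∀ r ∈ L, r < chevE7.nroots) ∧ L.Pairwise fun r s => ip (vec chevE7 7 r) (vec chevE7 7 s) = 0

instance (L : List ℕ) : Decidable (OrthL L) := by unfold OrthL; infer_instance

/-- the product -/
noncomputable def PhiF (K : Type u) [Field K] (L : List ℕ) (g : SpecialLinearGroup (Fin 2) K) : ↥(chevE7.group K) :=
  (L.map fun r => phr K r g).prod

theorem PhiF_cons (r : ℕ) (L : List ℕ) (g : SpecialLinearGroup (Fin 2) K) :
    PhiF K (r :: L) g = phr K r g * PhiF K L g := rfl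

theorem PhiF_comm {r : ℕ} {L : List ℕ} (hr : r < chevE7.nroots) (hL : ∀ s ∈ L, s < chevE7.nroots)
    (h : ∀ s ∈ L, ip (vec chevE7 7 r) (vec chevE7 7 s) = 0) (g g' : SpecialLinearGroup (Fin 2) K) :
    Commute (phr K r g) (PhiF K L g') := by
  induction L with
  | nil => exact Commute.one_right _
  | cons s L ih =>
    rw [PhiF_cons]
    exact (phr_comm hr (hL s List.mem_cons_self) (h s List.mem_cons_self) g g').mul_right
      (ih (fun t ht => hL t (List.mem_cons_of_mem _ ht)) fun t ht => h t (List.mem_cons_of_mem _ ht))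

theorem OrthL.tail {r : ℕ} {L : List ℕ} (h : OrthL (r :: L)) : OrthL L :=
  ⟨fun s hs => h.1 s (List.mem_cons_of_mem _ hs), (List.pairwise_cons.1 h.2).2⟩

theorem PhiF_mul {L : List ℕ} (hL : OrthL L) (g g' : SpecialLinearGroup (Fin 2) K) :
    PhiF K L (g * g') = PhiF K L g * PhiF K L g' := by
  induction L with
  | nil => exact (mul_one _).symm
  | cons r L ih =>
    rw [PhiF_cons, PhiF_cons, PhiF_cons, map_mul, ih hL.tail]
    have h1 := PhiF_comm (K := K) (hL.1 r List.mem_cons_self) hL.tail.1 (List.pairwise_cons.1 hL.2).1 g' g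
    calc phr K r g * phr K r g' * (PhiF K L g * PhiF K L g')
        = phr K r g * (phr K r g' * PhiF K L g) * PhiF K L g' := by group
      _ = phr K r g * (PhiF K L g * phr K r g') * PhiF K L g' := by rw [h1.eq]
      _ = _ := by group

/-- **The diagonal `SL₂`.** -/
noncomputable def Phi (K : Type u) [Field K] {L : List ℕ} (hL : OrthL L) :
    SpecialLinearGroup (Fin 2) K →* ↥(chevE7.group K) where
  toFun := PhiF K L
  map_one' := by
    unfold PhiF
    have : (L.map fun r => phr K r (1 : SpecialLinearGroup (Fin 2) K)) = L.map fun _ => 1 := by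
      refine List.map_congr_left fun r _ => ?_
      rw [map_one]
    rw [this]
    simp
  map_mul' := PhiF_mul hL

theorem emb_Phi {K' : Type u} [Field K'] (f : K →+* K') {L : List ℕ} (hL : OrthL L)
    (g : SpecialLinearGroup (Fin 2) K) : emb hp7.inList f (Phi K hL g) = Phi K' hL (SpecialLinearGroup.map f g) := by
  show emb hp7.inList f (PhiF K L g) = PhiF K' L (SpecialLinearGroup.map f g)
  unfold PhiF
  rw [map_list_prod, List.map_map]
  congr 1
  refine List.map_congr_left fun r hr => ?_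
  exact emb_phr f (hL.1 r hr) g

theorem Phi_H {L : List ℕ} (hL : OrthL L) {s : K} (hs : s ≠ 0) : Phi K hL (H s hs) ∈ TT chevE7 K ∧
    ∀ i : Fin 7, cX hp7 (Phi K hL (H s hs)) (sr i) =
      s ^ (L.map fun r => Strings.cartanR chevE7 r (chevE7.simple i)).sum := by
  show PhiF K L (H s hs) ∈ TT chevE7 K ∧ ∀ i : Fin 7, cX hp7 (PhiF K L (H s hs)) (sr i) =
      s ^ (L.map fun r => Strings.cartanR chevE7 r (chevE7.simple i)).sum
  induction L with
  | nil =>
    refine ⟨one_mem _, fun i => ?_⟩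
    show cX hp7 1 (sr i) = s ^ (0 : ℤ)
    rw [cX_one, zpow_zero]
  | cons r L ih =>
    obtain ⟨h1, h2⟩ := ih hL.tail
    obtain ⟨h3, h4⟩ := phr_H (K := K) (hL.1 r List.mem_cons_self) hs
    rw [PhiF_cons]
    refine ⟨mul_mem h3 h1, fun i => ?_⟩
    rw [cX_mul hp7 h3 h1, h4, h2, List.map_cons, List.sum_cons, zpow_add₀ hs]

end

end Cfsg.Agent.H351.UnfE7
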