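import Cfsg.Agent.H351.UnfE7.Pairs
import Cfsg.Agent.H351.UnfE7.Phi
import Cfsg.Agent.H351.UnfE7.Desc

/-!
# The classes of involutions of `E₇(q)`, `q` odd (helper351, S3026)

* `Cl j L` : the data of the classes `j = 1, 6`: a list `L` of orthogonal roots with `∑ a^∨ = 2 ω_j^∨`;
* `conj_main` : an involution of `E₇(F)` conjugate over `k` to `t` with `Std k j t` is conjugate to `Phi F (m0 F)`;
* `conj_zero` : the class `j = 0`.
-/

set_option autoImplicit false
set_option linter.unusedSectionVars false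

namespace Cfsg.Agent.H351.UnfE7

open CoxeterSystem Cfsg Cfsg.Lie Cfsg.Lie.ChevalleyDatum
open Cfsg.Agent.ChevalleyStructure Cfsg.Agent.ChevalleyStructure.Elts Cfsg.Agent.ChevalleyStructure.CoxeterGeom
  Cfsg.Agent.ChevalleyStructure.CoxeterGeomTypes Cfsg.Agent.ChevalleyStructure.NPerm
open Cfsg.Agent.Tits.Roots Cfsg.Agent.Tits.Core Cfsg.Agent.Nodes Cfsg.Agent.Nodes.Reps Cfsg.Agent.Nodes.BNOf
  Cfsg.Agent.Nodes.RGDChev Cfsg.Agent.Nodes.Bruhat Cfsg.Agent.Nodes.SubComb Cfsg.Agent.Nodes.Coroot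
open Cfsg.Agent.KFacts.RgdField Cfsg.Agent.KFacts.RgdChevCoord Cfsg.Agent.BpExc.TorCent Cfsg.Agent.BpExc.TorChev
open Cfsg.Agent.GpExc.Field Cfsg.Agent.BpExc.Tow Cfsg.Agent.BpExc.TowChev Cfsg.Agent.BpExc.Fr
  Cfsg.Agent.BpExc.LangFr Cfsg.Agent.LangThm Cfsg.Agent.BpExc Cfsg.Agent.H129.TorusChar Cfsg.Agent.H129.TorusCent
  Cfsg.Agent.H129.TorusTw Cfsg.Agent.H129.TorusMain Cfsg.Agent.H129.TorusUntw Cfsg.Agent.H129.WForm
  Cfsg.Agent.H720.TorusReal Cfsg.Agent.H129
open Cfsg.Agent.H238 Cfsg.Agent.H238.SL2Key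
open Matrix (SpecialLinearGroup)

universe u v

abbrev cs7 := CoxeterMatrix.E₇.toCoxeterSystem

/-- the data of the classes `j = 1, 6` -/
structure Cl (j : Fin 7) (L : List ℕ) : Prop where
  orth : OrthL L
  sum : ∀ i : Fin 7, (L.map fun r => Strings.cartanR chevE7 r (chevE7.simple i)).sum = if i = j then 2 else 0
  two : ∀ {w₁ w₂ : CoxeterMatrix.E₇.Group}, Pres cs7 j w₁ → Pres cs7 j w₂ → w₁ = 1 ∨ w₂ = 1 ∨ w₁ = w₂
  gam : j = 1 ∨ j = 6

theorem cl1 : Cl 1 [78, 87, 92, 104, 107, 111, 112] where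
  orth := by decide +kernel
  sum := by decide +kernel
  two h₁ h₂ := by
    have := finite_W hp7 cs7
    exact class1 h₁ h₂
  gam := Or.inl rfl

theorem cl6 : Cl 6 [63, 92, 125] where
  orth := by decide +kernel
  sum := by decide +kernel
  two h₁ h₂ := by
    have := finite_W hp7 cs7
    exact class6 h₁ h₂
  gam := Or.inr rfl

section Gen

variable {K : Type u} [Field K] {j : Fin 7} {L : List ℕ} (C : Cl j L)

include C in
theorem Cl.H_cX {s : K} (hs : s ≠ 0) (i : Fin 7) : cX hp7 (Phi K C.orth (H s hs)) (sr i) = if i = j then s ^ 2 else 1 := by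
  rw [(Phi_H C.orth hs).2, C.sum]
  split_ifs
  · norm_cast
  · exact zpow_zero s

include C in
theorem Cl.neg_one : Phi K C.orth (H (-1) (neg_ne_zero.2 one_ne_zero)) = 1 := by
  refine cX_inj hp7 (Phi_H C.orth _).1 (one_mem _) fun i => ?_
  rw [C.H_cX, cX_one]
  split_ifs
  · norm_num
  · rfl

include C in
theorem Cl.phi_neg {g g' : SpecialLinearGroup (Fin 2) K} (h : mm g' = -mm g) : Phi K C.orth g' = Phi K C.orth g := by
  have e : g' = H (-1) (neg_ne_zero.2 one_ne_zero) * g := by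
    refine ext2 ?_
    rw [mm_mul, coe_H, h]
    ext i j
    fin_cases i <;> fin_cases j <;> simp [Matrix.mul_apply, Fin.sum_univ_two, inv_neg]
  rw [e, map_mul, C.neg_one, one_mul]

end Gen

section Main

variable {k : Type u} [Field k] [IsAlgClosed k] {p e : ℕ} [Fact p.Prime] [CharP k p] {F : Type u} [Field F] [Fintype F]
  (f : F →+* k) {j : Fin 7} {L : List ℕ} (C : Cl j L)

theorem map_m0 : SpecialLinearGroup.map f (m0 F) = m0 k := by
  refine ext2 ?_
  ext i j
  rw [mm_map, coe_m0, coe_m0]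
  fin_cases i <;> fin_cases j <;> simp

theorem two_ne (hp2 : p ≠ 2) : (2 : k) ≠ 0 := by
  intro h1
  have h2 : ((2 : ℕ) : k) = 0 := by exact_mod_cast h1
  rw [CharP.cast_eq_zero_iff k p] at h2
  exact hp2 ((Nat.prime_dvd_prime_iff_eq Fact.out Nat.prime_two).1 h2)

include C in
/-- elements of trace zero -/
theorem Cl.std_of_trace (h2 : (2 : k) ≠ 0) {M : SpecialLinearGroup (Fin 2) k} (hM : mm M 0 0 + mm M 1 1 = 0) :
    ∃ z : ↥(chevE7.group k), Std k j (z * Phi k C.orth M * z⁻¹) := by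
  obtain ⟨a, ha⟩ := IsAlgClosed.exists_pow_nat_eq (-1 : k) (n := 2) (by norm_num)
  have ha0 : a ≠ 0 := by
    rintro rfl
    norm_num at ha
  obtain ⟨P, hP⟩ := isConj_m0 h2 hM
  obtain ⟨Q, hQ⟩ := isConj_m0 h2 (M := H a ha0) (by
    rw [coe_H]
    have h1 : a⁻¹ = -a := by
      rw [inv_eq_iff_eq_inv, eq_comm]
      apply inv_eq_of_mul_eq_one_left
      linear_combination -ha
    simp [h1])
  refine ⟨Phi k C.orth (Q * P⁻¹), ?_⟩
  have e : Phi k C.orth (Q * P⁻¹) * Phi k C.orth M * (Phi k C.orth (Q * P⁻¹))⁻¹ = Phi k C.orth (H a ha0) := by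
    rw [← map_mul, ← map_inv, ← map_mul]
    congr 1
    rw [hP, hQ]
    group
  rw [e]
  refine ⟨(Phi_H C.orth ha0).1, fun i => ?_⟩
  rw [C.H_cX, ha]

theorem frob_map (hq : Fintype.card F = p ^ e) (a : F) : iterateFrobenius k p e (f a) = f a :=
  (frob_fix_iff f hq (f a)).2 ⟨a, rfl⟩

include C in
/-- `g = s⁻¹ A`, `A` over `F`, `s² ∈ F`: `Phi g` is fixed -/
theorem Cl.fixed (hq : Fintype.card F = p ^ e) {g : SpecialLinearGroup (Fin 2) k} {A : Matrix (Fin 2) (Fin 2) F}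
    {s : k} {ν : F} (hs : s ^ 2 = f ν) (hs0 : s ≠ 0) (hA : ∀ i j, s * mm g i j = f (A i j)) :
    phi chevE7 k p e (Phi k C.orth g) = Phi k C.orth g := by
  rw [phi_eq hp7, emb_Phi]
  have h1 : iterateFrobenius k p e s = s ∨ iterateFrobenius k p e s = -s := by
    apply sq_eq_sq_iff_eq_or_eq_neg.1
    rw [← map_pow, hs, frob_map f hq]
  have h2 : ∀ i j, iterateFrobenius k p e s * iterateFrobenius k p e (mm g i j) = s * mm g i j := by
    intro i j
    rw [← map_mul, hA, frob_map f hq]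
  rcases h1 with h1 | h1
  · congr 1
    refine ext2 ?_
    ext i j
    rw [mm_map]
    have h3 := h2 i j
    rw [h1] at h3
    exact mul_left_cancel₀ hs0 h3
  · refine C.phi_neg ?_
    ext i j
    rw [mm_map, Matrix.neg_apply]
    have h3 := h2 i j
    rw [h1] at h3
    apply mul_left_cancel₀ hs0
    linear_combination -h3

include C in
/-- if moreover `s²` is not a square of `F`, then `Phi g` is not in the image of the finite group -/
theorem Cl.not_mem {g : SpecialLinearGroup (Fin 2) k} {A : Matrix (Fin 2) (Fin 2) F}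
    {s : k} {ν : F} (hs : s ^ 2 = f ν) (hs0 : s ≠ 0) (hA : ∀ i j, s * mm g i j = f (A i j)) (hν : ¬ IsSquare ν) :
    Phi k C.orth g ∉ (emb hp7.inList f).range := by
  intro hmem
  have hν0 : ν ≠ 0 := by
    rintro rfl
    exact hν (IsSquare.zero)
  have hdet : mm g 0 0 * mm g 1 1 - mm g 0 1 * mm g 1 0 = 1 := by
    have := g.2
    rw [Matrix.det_fin_two] at this
    exact this
  have hdA : A 0 0 * A 1 1 - A 0 1 * A 1 0 = ν := by
    apply f.injective
    rw [map_sub, map_mul, map_mul, ← hA, ← hA, ← hA, ← hA, ← hs]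
    linear_combination s ^ 2 * hdet
  obtain ⟨B, hB⟩ : ∃ B : SpecialLinearGroup (Fin 2) F, mm B = !![A 0 0 * ν⁻¹, A 0 1; A 1 0 * ν⁻¹, A 1 1] := by
    refine ⟨⟨!![A 0 0 * ν⁻¹, A 0 1; A 1 0 * ν⁻¹, A 1 1], ?_⟩, rfl⟩
    rw [Matrix.det_fin_two]
    simp
    field_simp
    linear_combination hdA
  have hfν : f ν ≠ 0 := by
    rw [← hs]
    exact pow_ne_zero 2 hs0
  have e1 : g = SpecialLinearGroup.map f B * H s hs0 := by
    refine ext2 ?_
    have e2 : mm (SpecialLinearGroup.map f B) = !![s * mm g 0 0 * (f ν)⁻¹, s * mm g 0 1; s * mm g 1 0 * (f ν)⁻¹, s * mm g 1 1] := by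
      ext i j
      rw [mm_map, hB, hA, hA, hA, hA]
      fin_cases i <;> fin_cases j <;> simp
    rw [mm_mul, e2, coe_H, ← hs]
    ext i j
    fin_cases i <;> fin_cases j <;> simp [Matrix.mul_apply, Fin.sum_univ_two]
    · field_simp
    · field_simp
    · field_simp
    · field_simp
  have h1 : Phi k C.orth (H s hs0) ∈ (emb hp7.inList f).range := by
    have h2 : Phi k C.orth (H s hs0) = (emb hp7.inList f (Phi F C.orth B))⁻¹ * Phi k C.orth g := by
      rw [emb_Phi, e1, map_mul]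
      group
    rw [h2]
    exact mul_mem (inv_mem ⟨_, rfl⟩) hmem
  obtain ⟨b, hb⟩ := parity f (Phi_H C.orth hs0).1 h1
  apply hν
  refine ⟨b, ?_⟩
  apply f.injective
  rw [map_mul, ← pow_two, ← hb, C.H_cX, C.H_cX, C.H_cX, ← hs]
  rcases C.gam with rfl | rfl <;> simp

include C in
/-- **The classes `j = 1, 6`.** -/
theorem Cl.conj_main (hk : LocFin k) (hp2 : p ≠ 2) (he : 0 < e) (hq : Fintype.card F = p ^ e)
    {x : ↥(chevE7.group F)} {z : ↥(chevE7.group k)} (hz : Std k j (z * emb hp7.inList f x * z⁻¹)) :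
    IsConj (Phi F C.orth (m0 F)) x := by
  have hpp : p.Prime := Fact.out
  have hW := finite_W hp7 cs7
  have h2k := two_ne (k := k) hp2
  have hodd : Odd (Fintype.card F) := by rw [hq]; exact (hpp.odd_of_ne_two hp2).pow
  have h2F : (2 : F) ≠ 0 := by
    intro h
    apply h2k
    have := congrArg f h
    rwa [map_ofNat, map_zero] at this
  have hcF : ringChar F ≠ 2 := by
    intro h
    apply h2F
    have := ringChar.Nat.cast_ringChar (R := F)
    rw [h] at this
    exact_mod_cast this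
  obtain ⟨ν, hν⟩ := FiniteField.exists_nonsquare hcF
  have hν0 : ν ≠ 0 := by
    rintro rfl
    exact hν (IsSquare.zero)
  obtain ⟨s, hs⟩ := IsAlgClosed.exists_pow_nat_eq (f ν) (n := 2) (by norm_num)
  have hs0 : s ≠ 0 := by
    rintro rfl
    rw [zero_pow (by norm_num)] at hs
    exact hν0 ((map_eq_zero f).1 hs.symm)
  set σ := phi chevE7 k p e with hσdef
  have hσ : IsFrob p e σ := isFrob_phi
  have hF := fr_phi (k := k) (p := p) (e := e) hp7 cs7
  -- the element `y`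
  obtain ⟨y0, hy0⟩ : ∃ y0, y0 = Phi F C.orth (m0 F) := ⟨_, rfl⟩
  have hy : emb hp7.inList f y0 = Phi k C.orth (m0 k) := by rw [hy0, emb_Phi, map_m0]
  obtain ⟨zy, hzy⟩ := C.std_of_trace h2k (M := m0 k) (by rw [coe_m0]; simp)
  rw [← hy] at hzy
  -- the element `y'`
  obtain ⟨g', hg'⟩ : ∃ g' : SpecialLinearGroup (Fin 2) k, mm g' = !![0, -s; s⁻¹, 0] :=
    ⟨⟨!![0, -s; s⁻¹, 0], by simp [Matrix.det_fin_two, hs0]⟩, rfl⟩
  have hA' : ∀ i j, s * mm g' i j = f ((!![0, -ν; 1, 0] : Matrix (Fin 2) (Fin 2) F) i j) := by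
    intro i j
    rw [hg']
    fin_cases i <;> fin_cases j <;> simp [hs0]
    rw [← hs]; ring
  obtain ⟨zy', hzy'⟩ := C.std_of_trace h2k (M := g') (by rw [hg']; simp)
  have hfix' := C.fixed f hq hs hs0 hA'
  have hnm' := C.not_mem f hs hs0 hA' hν
  -- the element `r`
  obtain ⟨a, b, hab⟩ := sum_sq h2F ν
  obtain ⟨gr, hgr⟩ : ∃ gr : SpecialLinearGroup (Fin 2) k, mm gr = !![s⁻¹ * f a, -(s⁻¹ * f b); s⁻¹ * f b, s⁻¹ * f a] := by
    refine ⟨⟨!![s⁻¹ * f a, -(s⁻¹ * f b); s⁻¹ * f b, s⁻¹ * f a], ?_⟩, rfl⟩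
    have h1 : f a ^ 2 + f b ^ 2 = s ^ 2 := by rw [hs, ← hab, map_add, map_pow, map_pow]
    rw [Matrix.det_fin_two]
    simp
    field_simp
    linear_combination h1
  have hAr : ∀ i j, s * mm gr i j = f ((!![a, -b; b, a] : Matrix (Fin 2) (Fin 2) F) i j) := by
    intro i j
    rw [hgr]
    fin_cases i <;> fin_cases j <;> simp [hs0]
  have hfixr := C.fixed f hq hs hs0 hAr
  have hnmr := C.not_mem f hs hs0 hAr hν
  have hcomm : Phi k C.orth gr * emb hp7.inList f y0 = emb hp7.inList f y0 * Phi k C.orth gr := by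
    rw [hy, ← map_mul, ← map_mul]
    congr 1
    refine ext2 ?_
    rw [mm_mul, mm_mul, hgr, coe_m0]
    ext i j
    fin_cases i <;> fin_cases j <;> simp [Matrix.mul_apply, Fin.sum_univ_two]
  -- the reduced pairs
  obtain ⟨wx, cx, Rx⟩ := exists_pair cs7 hk hp2 he hσ hF (phi_emb hp7 f hq x) hz
  obtain ⟨wy, cy, Ry⟩ := exists_pair cs7 hk hp2 he hσ hF (phi_emb hp7 f hq y0) hzy
  obtain ⟨wy', cy', Ry'⟩ := exists_pair cs7 hk hp2 he hσ hF hfix' hzy'
  rw [hz.eq hzy] at Rx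
  rw [hzy'.eq hzy] at Ry'
  -- conjugates of elements of the image are in the image
  have hnorm : ∀ a : ↥(chevE7.group k), σ a = a → ∀ w : ↥(chevE7.group F),
      a * emb hp7.inList f w * a⁻¹ ∈ (emb hp7.inList f).range := fun a ha w =>
    Emb.conj_mem_range (F := F) (hD := hp7.inList) (f := f) (φ := iterateFrobenius k p e)
      (fun t => by rw [iterateFrobenius_def, hq]) (σ := phi chevE7 k p e) coe_phi ha ⟨w, rfl⟩
  have hne : wy ≠ wy' := by
    intro h
    subst h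
    obtain ⟨a, ha, h1⟩ := fixed_conj cs7 hk he hσ Ry' Ry
    exact hnm' (by rw [← h1]; exact hnorm a ha y0)
  have hnex : wx ≠ wy' := by
    intro h
    subst h
    obtain ⟨a, ha, h1⟩ := fixed_conj cs7 hk he hσ Ry' Rx
    exact hnm' (by rw [← h1]; exact hnorm a ha x)
  have hw : wx = wy := by
    rcases C.two Rx.pres Ry.pres with h | h | h
    · rcases C.two Ry.pres Ry'.pres with h' | h' | h'
      · rw [h, h']
      · exact absurd (h.trans h'.symm) hnex
      · exact absurd h' hne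
    · rcases C.two Rx.pres Ry'.pres with h' | h' | h'
      · rw [h, h']
      · exact absurd (h.trans h'.symm) hne
      · exact absurd h' hnex
    · exact h
  subst hw
  obtain ⟨a, ha, h1⟩ := fixed_conj cs7 hk he hσ Rx Ry
  have hinj := emb_injective hp7.inList f
  rw [← hy0]
  by_cases hmem : a ∈ (emb hp7.inList f).range
  · obtain ⟨a0, rfl⟩ := hmem
    refine isConj_iff.2 ⟨a0, hinj ?_⟩
    rw [map_mul, map_mul, map_inv, h1]
  · obtain ⟨a0, ha0⟩ := mul_mem_range7 f hq hodd ha hfixr hmem hnmr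
    refine isConj_iff.2 ⟨a0, hinj ?_⟩
    rw [map_mul, map_mul, map_inv, ha0]
    calc a * Phi k C.orth gr * emb hp7.inList f y0 * (a * Phi k C.orth gr)⁻¹
        = a * (Phi k C.orth gr * emb hp7.inList f y0) * (Phi k C.orth gr)⁻¹ * a⁻¹ := by group
      _ = a * emb hp7.inList f y0 * a⁻¹ := by rw [hcomm]; group
      _ = _ := h1

end Main

end Cfsg.Agent.H351.UnfE7
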