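import Cfsg.Agent.BpExc.NChev

/-!
# The pair reduction with the Weyl group elements (copy of `H238.PairW` with a smaller import closure)

`pair_reduction_w` : as `Cfsg.Agent.BpExc.Pair.pair_reduction`, `g' = rep w ∘ g ∘ rep v`.
-/

set_option autoImplicit false
set_option linter.unusedSectionVars false

namespace Cfsg.Agent.H351.PairW

open CoxeterSystem Cfsg.Agent.ChevalleyStructure.CoxeterGeom Cfsg.Agent.Tits.Roots Cfsg.Agent.Tits.Core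
  Cfsg.Agent.Tits.RootComb Cfsg.Agent.Tits.Exchange Cfsg.Agent.Nodes.Reps Cfsg.Agent.Nodes.BNOf
  Cfsg.Agent.Nodes.StabComb Cfsg.Agent.Nodes.Bruhat Cfsg.Agent.Nodes.OppDec Cfsg.Agent.Nodes.LeviDec
  Cfsg.Agent.Nodes.NormalForm Cfsg.Agent.Nodes.SubComb Cfsg.Agent.Nodes.Coroot Cfsg.Agent.KFacts.RgdField
  Cfsg.Agent.BpExc.TorCent Cfsg.Agent.BpExc.Tow Cfsg.Agent.BpExc.Fr Cfsg.Agent.BpExc.Pair
open scoped commutatorElement

section Red

variable {I W Y : Type*} [Fintype I] [DecidableEq I] [Group W] [Group Y] {M : CoxeterMatrix I}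
  {cs : CoxeterSystem M W} {A : I → I → ℤ} {h : IsCartan M A} {p : ℕ}
  {J : Type*} [Preorder J] {T : J → Subgroup Y} {n : I → Y} {X : J → (I → ℤ) → Subgroup Y}
  (H : Tow cs h p T n X) {F : Type*} [Field F] {xx : (I → ℤ) → F → Y} {χ : (I → ℤ) → Y → F}
  (C : Coords cs h (TL T) n (XL X) xx χ)

include H C

/-- **The pair reduction.** -/
theorem pair_reduction_w [Finite W] (hA : ChAdd cs h (TL T) χ) (hG : GG cs h (TL T) (XL X) = ⊤) {σ : MulAut Y}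
    {g : (I → ℤ) ≃+ (I → ℤ)} (Fσ : Fr cs h (TL T) (XL X) σ g) {x z t : Y} (hσx : σ x = x)
    (hz : z⁻¹ * x * z = t) (ht : t ∈ TL T)
    (hL : ∀ (k : Y) (g' : (I → ℤ) ≃+ (I → ℤ)), Fr cs h (TL T) (XL X) (MulAut.conj k * σ) g' →
      (MulAut.conj k * σ) t = t → ∀ m ∈ MM cs h (XL X) χ t, ∃ y ∈ MM cs h (XL X) χ t,
      m = y⁻¹ * (MulAut.conj k * σ) y) :
    ∃ (z' k : Y) (g' : (I → ℤ) ≃+ (I → ℤ)), z'⁻¹ * x * z' = t ∧ z'⁻¹ * σ z' = k ∧
      Fr cs h (TL T) (XL X) (MulAut.conj k * σ) g' ∧ (MulAut.conj k * σ) t = t ∧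
      (∀ a ∈ Sx cs h χ t, 0 ≤ a → 0 ≤ g' a) ∧ ∃ w v : W, ∀ x, g' x = rep cs h w (g (rep cs h v x)) := by
  -- `c σ(t) c⁻¹ = t`
  have e1 : z⁻¹ * σ z * σ t = t * (z⁻¹ * σ z) := by
    have h1 : σ t = (σ z)⁻¹ * x * σ z := by rw [← hz, map_mul, map_mul, map_inv, hσx]
    rw [h1, ← hz]; group
  obtain ⟨m, hm, w, k, hk, hkt, hc⟩ := Cfsg.Agent.BpExc.Fr.exists_form H C ((Fσ.tor t).2 ht) ht
    (c := z⁻¹ * σ z) (by rw [hG]; exact Subgroup.mem_top _) e1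
  -- the frame automorphism `τ₀ = conj k * σ`
  have F0 := (Fr.conj H hk).mul Fσ
  have ht0 : (MulAut.conj k * σ) t = t := by
    show k * σ t * k⁻¹ = t
    rw [hkt]; group
  -- adjustment of the positive system
  let V : Subgroup W :=
    { carrier := {v | ∃ m ∈ MM cs h (XL X) χ t, Rp cs H.nsys v m}
      one_mem' := ⟨1, one_mem _, rp_one⟩
      mul_mem' := by
        rintro a b ⟨m, hm, hm'⟩ ⟨m', hm1, hm2⟩
        exact ⟨m * m', mul_mem hm hm1, hm'.mul hm2⟩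
      inv_mem' := by
        rintro a ⟨m, hm, hm'⟩
        exact ⟨m⁻¹, inv_mem hm, hm'.inv⟩ }
  obtain ⟨v, ⟨m₁, hm₁, hv⟩, hpos⟩ := Cfsg.Agent.BpExc.Fr.exists_adjust (cs := cs) (h := h) (Sx cs h χ t) V
    (fun a ha => exists_rfl_MM H C hA ht ha) (g.trans (repAut cs h w)) (fun a ha => (F0.root a).2 ha)
  have hm₁t : m₁ * t = t * m₁ := by
    have := MM_le_centralizer C ht hm₁
    rw [Subgroup.mem_centralizer_singleton_iff] at this
    exact this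
  have F1 := F0.mul (Fr.conj H hv)
  have e2 : MulAut.conj k * σ * MulAut.conj m₁ = MulAut.conj (k * σ m₁) * σ := by
    ext y
    show k * σ (m₁ * y * m₁⁻¹) * k⁻¹ = k * σ m₁ * σ y * (k * σ m₁)⁻¹
    rw [map_mul, map_mul, map_inv]; group
  rw [e2] at F1
  have ht1 : (MulAut.conj (k * σ m₁) * σ) t = t := by
    rw [← e2]
    show (MulAut.conj k * σ) (m₁ * t * m₁⁻¹) = t
    rw [hm₁t, mul_inv_cancel_right, ht0]
  have hm' : m * ((MulAut.conj k * σ) m₁)⁻¹ ∈ MM cs h (XL X) χ t :=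
    mul_mem hm (inv_mem ((F0.mem_MM C ht ht0 m₁).2 hm₁))
  obtain ⟨y, hy, ey⟩ := hL _ _ F1 ht1 _ hm'
  have hyt : y * t = t * y := by
    have := MM_le_centralizer C ht hy
    rw [Subgroup.mem_centralizer_singleton_iff] at this
    exact this
  refine ⟨z * y⁻¹, k * σ m₁, _, ?_, ?_, F1, ht1, hpos, w, v, fun x => rfl⟩
  · calc (z * y⁻¹)⁻¹ * x * (z * y⁻¹) = y * (z⁻¹ * x * z) * y⁻¹ := by group
      _ = t := by rw [hz, hyt]; group
  · have h3 : z⁻¹ * σ z = y⁻¹ * (k * σ m₁) * σ y := by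
      have h4 : m = y⁻¹ * (k * σ m₁ * σ y * (k * σ m₁)⁻¹) * (k * σ m₁ * k⁻¹) := by
        have h5 : m * (k * σ m₁ * k⁻¹)⁻¹ = y⁻¹ * (k * σ m₁ * σ y * (k * σ m₁)⁻¹) := ey
        rw [← h5]; group
      rw [hc, h4]; group
    rw [map_mul, map_inv]
    calc (z * y⁻¹)⁻¹ * (σ z * (σ y)⁻¹) = y * (z⁻¹ * σ z) * (σ y)⁻¹ := by group
      _ = k * σ m₁ := by rw [h3]; group

end Red

section Chev

open CoxeterSystem Cfsg Cfsg.Lie Cfsg.Lie.ChevalleyDatum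
open Cfsg.Agent.ChevalleyStructure Cfsg.Agent.ChevalleyStructure.Elts Cfsg.Agent.ChevalleyStructure.CoxeterGeom
  Cfsg.Agent.ChevalleyStructure.CoxeterGeomTypes Cfsg.Agent.ChevalleyStructure.NPerm
open Cfsg.Agent.Tits.Roots Cfsg.Agent.Tits.Core Cfsg.Agent.Nodes Cfsg.Agent.Nodes.Reps Cfsg.Agent.Nodes.BNOf
  Cfsg.Agent.Nodes.RGDChev Cfsg.Agent.Nodes.Bruhat Cfsg.Agent.Nodes.NormalForm Cfsg.Agent.Nodes.Coroot
open Cfsg.Agent.KFacts.RgdField Cfsg.Agent.KFacts.RgdChevCoord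
open Cfsg.Agent.BpExc Cfsg.Agent.BpExc.TorCent Cfsg.Agent.BpExc.TorChev Cfsg.Agent.BpExc.Tow
  Cfsg.Agent.BpExc.TowChev Cfsg.Agent.BpExc.Fr Cfsg.Agent.BpExc.Pair Cfsg.Agent.BpExc.LangFr Cfsg.Agent.GpExc.Field
  Cfsg.Agent.BpExc.NInst

universe u v

section PairSec

variable {D : ChevalleyDatum} {l : ℕ} {M : CoxeterMatrix (Fin l)} (hp : IsType D l M) {k : Type u} [Field k]
  {W : Type v} [Group W] (cs : CoxeterSystem M W) {r : ℕ} [Fact r.Prime] [CharP k r]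

include hp cs in
/-- **The pair reduction in `D.group k`**, with the conjugating element. -/
theorem exists_pair_conj_w [IsAlgClosed k] (hk : LocFin k)
    {σ : MulAut ↥(D.group k)} {g : (Fin l → ℤ) ≃+ (Fin l → ℤ)} {e : ℕ} (he : 0 < e) (hσ : IsFrob r e σ)
    (Fσ : Fr cs hp.isCartan (TT D k) (XX D l k) σ g) {x : ↥(D.group k)}
    (hσx : σ x = x) {z : ↥(D.group k)} (hz : z * x * z⁻¹ ∈ TT D k) :
    ∃ (c k' : ↥(D.group k)) (g' : (Fin l → ℤ) ≃+ (Fin l → ℤ)),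
      c⁻¹ * x * c = z * x * z⁻¹ ∧ c⁻¹ * σ c = k' ∧ IsFrob r e (MulAut.conj k' * σ) ∧
      Fr cs hp.isCartan (TT D k) (XX D l k) (MulAut.conj k' * σ) g' ∧ (MulAut.conj k' * σ) (z * x * z⁻¹) = z * x * z⁻¹ ∧
      (∀ a ∈ Sx cs hp.isCartan (ch hp) (z * x * z⁻¹), 0 ≤ a → 0 ≤ g' a) ∧
      ∃ w v : W, ∀ x, g' x = rep cs hp.isCartan w (g (rep cs hp.isCartan v x)) := by
  have := finite_W hp cs
  have hTL := TL_eq hp hk
  have hXL := XL_eq hp hk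
  have C := coordsL hp cs hk r
  have hA := chAddL hp cs hk r
  have hG := GG_eq_top hp cs hk
  have Fσ' : Fr cs hp.isCartan (TL (Tj hp (k := k))) (XL (Xj hp (k := k))) σ g := by rw [hTL, hXL]; exact Fσ
  set t : ↥(D.group k) := z * x * z⁻¹ with ht
  have ht' : t ∈ TL (Tj hp (k := k)) := by rw [hTL]; exact hz
  have C' : Coords cs hp.isCartan (TL (Tj hp (k := k))) (nc hp k) (XL (Xj hp (k := k))) (xc hp) (ch hp) := by
    rw [hTL, hXL]; exact C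
  have hA' : ChAdd cs hp.isCartan (TL (Tj hp (k := k))) (ch (K := k) hp) := by rw [hTL]; exact hA
  obtain ⟨z', k', g', h1, h2, h3, h4, h5, h6⟩ := pair_reduction_w (tow hp cs hk r) C' hA' hG Fσ' hσx (z := z⁻¹) (t := t)
    (by rw [ht, inv_inv]) ht' (fun k' g' F' htt m hm => by
      have h1 := fun a => F'.mem_Sx C' ht' htt a
      rw [hTL, hXL] at F'
      rw [hXL] at hm ⊢
      exact lang_fr hp cs he (hσ.conj_mul k') F' (S := Sx cs hp.isCartan (ch hp) t) (fun a ha => ha.1)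
        (fun a ha => (h1 a).2 ha) hm)
  rw [hTL, hXL] at h3
  exact ⟨z', k', g', h1, h2, hσ.conj_mul k', h3, h4, h5, h6⟩

end PairSec

end Chev

end Cfsg.Agent.H351.PairW
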