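import Cfsg.Agent.H351.UnfE7.Toral

/-!
# Involutions of `E₇(k)` fixed by a Frobenius automorphism (helper351, S3026)

* `exists_pair` : the pair reduction with the conditions `Pres` on the Weyl group element;
* `fixed_conj` : two fixed points of `σ` with the same reduced pair are conjugate under the fixed points of `σ`.
-/

set_option autoImplicit false
set_option linter.unusedSectionVars false

namespace Cfsg.Agent.H351.UnfE7

open CoxeterSystem Cfsg Cfsg.Lie Cfsg.Lie.ChevalleyDatum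
open Cfsg.Agent.ChevalleyStructure Cfsg.Agent.ChevalleyStructure.Elts Cfsg.Agent.ChevalleyStructure.CoxeterGeom
  Cfsg.Agent.ChevalleyStructure.CoxeterGeomTypes Cfsg.Agent.ChevalleyStructure.NPerm
open Cfsg.Agent.Tits.Roots Cfsg.Agent.Tits.Core Cfsg.Agent.Nodes Cfsg.Agent.Nodes.Reps Cfsg.Agent.Nodes.BNOf
  Cfsg.Agent.Nodes.RGDChev Cfsg.Agent.Nodes.Bruhat Cfsg.Agent.Nodes.SubComb Cfsg.Agent.Nodes.Coroot
open Cfsg.Agent.KFacts.RgdField Cfsg.Agent.KFacts.RgdChevCoord Cfsg.Agent.BpExc.TorCent Cfsg.Agent.BpExc.TorChev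
open Cfsg.Agent.GpExc.Field Cfsg.Agent.BpExc.Tow Cfsg.Agent.BpExc.TowChev Cfsg.Agent.BpExc.Fr
  Cfsg.Agent.BpExc.LangFr Cfsg.Agent.LangThm Cfsg.Agent.BpExc Cfsg.Agent.H129.TorusChar Cfsg.Agent.H129.TorusCent
  Cfsg.Agent.H129.TorusTw Cfsg.Agent.H129.TorusMain Cfsg.Agent.H129.TorusUntw Cfsg.Agent.H129.WForm
  Cfsg.Agent.H720.TorusReal

universe u v

section

variable {k : Type u} [Field k] [IsAlgClosed k] {p e : ℕ} [Fact p.Prime] [CharP k p] {σ : MulAut ↥(chevE7.group k)}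
  {W : Type v} [Group W] [Finite W] (cs : CoxeterSystem CoxeterMatrix.E₇ W)

/-- `x` is conjugate by `c` to `t`, `c⁻¹ σ(c)` acts as `w`. -/
structure RedPair (σ : MulAut ↥(chevE7.group k)) (j : Fin 7) (w : W) (x t c : ↥(chevE7.group k)) : Prop where
  std : Std k j t
  conj : c⁻¹ * x * c = t
  fr : Fr cs hp7.isCartan (TT chevE7 k) (XX chevE7 7 k) (MulAut.conj (c⁻¹ * σ c) * σ) (repAut cs hp7.isCartan w)
  pres : Pres cs j w

/-- **The pair reduction.** -/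
theorem exists_pair (hk : LocFin k) (hp2 : p ≠ 2) (he : 0 < e) (hσ : IsFrob p e σ)
    (F : Fr cs hp7.isCartan (TT chevE7 k) (XX chevE7 7 k) σ (AddEquiv.refl _)) {x z : ↥(chevE7.group k)}
    (hx : σ x = x) {j : Fin 7} (hz : Std k j (z * x * z⁻¹)) : ∃ (w : W) (c : ↥(chevE7.group k)),
      RedPair cs σ j w x (z * x * z⁻¹) c := by
  have hpp : p.Prime := Fact.out
  have hodd : Odd (p ^ e) := (hpp.odd_of_ne_two hp2).pow
  have h11 : (1 : k) ≠ -1 := by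
    intro h1
    have h2 : ((2 : ℕ) : k) = 0 := by
      push_cast
      linear_combination h1
    rw [CharP.cast_eq_zero_iff k p] at h2
    exact hp2 ((Nat.prime_dvd_prime_iff_eq hpp Nat.prime_two).1 h2)
  obtain ⟨c, k', g', h1, h2, h3, h4, h5, h6, w, v, h7⟩ :=
    Cfsg.Agent.H351.PairW.exists_pair_conj_w hp7 cs hk he hσ F hx (z := z) hz.1
  have hg : g' = repAut cs hp7.isCartan (w * v) := by
    apply AddEquiv.ext
    intro y
    rw [h7, repAut_apply, rep_mul_apply]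
    rfl
  subst h2
  rw [hg] at h4
  have hpar : ∀ y : Fin 7 → ℤ, (rep cs hp7.isCartan (w * v) y j) % 2 = y j % 2 := by
    intro y
    have h8 := cX_sigma hp7 cs h3 h4 hz.1 y
    rw [h5, hz.cX, hz.cX, repAut_apply, neg_one_zpow_mod, neg_one_zpow_mod] at h8
    rcases Int.emod_two_eq_zero_or_one (y j) with h9 | h9 <;>
      rcases Int.emod_two_eq_zero_or_one (rep cs hp7.isCartan (w * v) y j) with h10 | h10
    · rw [h9, h10]
    · rw [if_pos h10, if_neg (by omega), one_pow] at h8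
      exact absurd h8.symm h11
    · rw [if_neg (by omega), if_pos h9, hodd.neg_one_pow] at h8
      exact absurd h8 h11
    · rw [h9, h10]
  refine ⟨w * v, c, hz, h1, h4, hpar, fun a ha h8 h9 => ?_⟩
  have h10 := h6 a ⟨ha, ?_⟩ h9
  · rwa [hg, repAut_apply] at h10
  · rw [← cX_root hp7 cs hz.1 ha, hz.cX, neg_one_zpow_mod, if_neg (by omega)]

/-- **Conjugacy under the fixed points.** -/
theorem fixed_conj (hk : LocFin k) (he : 0 < e) (hσ : IsFrob p e σ) {j : Fin 7} {w : W}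
    {x y t c₁ c₂ : ↥(chevE7.group k)} (h₁ : RedPair cs σ j w x t c₁) (h₂ : RedPair cs σ j w y t c₂) :
    ∃ a : ↥(chevE7.group k), σ a = a ∧ a * y * a⁻¹ = x := by
  obtain ⟨k₁, hk₁⟩ : ∃ k₁, k₁ = c₁⁻¹ * σ c₁ := ⟨_, rfl⟩
  obtain ⟨k₂, hk₂⟩ : ∃ k₂, k₂ = c₂⁻¹ * σ c₂ := ⟨_, rfl⟩
  have F₁ := h₁.fr
  have F₂ := h₂.fr
  rw [← hk₁] at F₁
  rw [← hk₂] at F₂
  obtain ⟨s, hs⟩ : ∃ s, s = k₁ * k₂⁻¹ := ⟨_, rfl⟩
  have hsT : s ∈ TT chevE7 k := by
    have F3 := F₁.mul F₂.inv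
    have e1 : MulAut.conj k₁ * σ * (MulAut.conj k₂ * σ)⁻¹ = MulAut.conj s := by
      rw [hs, map_mul, map_inv]
      group
    rw [e1] at F3
    refine mem_TT_of_fr hp7 cs hk p invC_E7 (by norm_num) (fun x => ?_) F3
    show repAut cs hp7.isCartan w ((repAut cs hp7.isCartan w).symm x) = x
    exact AddEquiv.apply_symm_apply _ _
  obtain ⟨u, hu, h1⟩ := torus_lang hp7 cs he (hσ.conj_mul k₂) F₂ invC_E7 (by norm_num) hsT
  have h2 : u = s * (k₂ * σ u * k₂⁻¹) := h1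
  have h3 : k₁ = s * k₂ := by rw [hs]; group
  have hσ₁ : σ c₁ = c₁ * k₁ := by rw [hk₁]; group
  have hσ₂ : σ c₂ = c₂ * k₂ := by rw [hk₂]; group
  have hut : u * t = t * u := TT_comm hp7 hu h₁.std.1
  refine ⟨c₁ * u * c₂⁻¹, ?_, ?_⟩
  · rw [map_mul, map_mul, map_inv, hσ₁, hσ₂, h3]
    calc c₁ * (s * k₂) * σ u * (c₂ * k₂)⁻¹ = c₁ * (s * (k₂ * σ u * k₂⁻¹)) * c₂⁻¹ := by group
      _ = c₁ * u * c₂⁻¹ := by rw [← h2]
  · have h4 : y = c₂ * t * c₂⁻¹ := by rw [← h₂.conj]; group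
    have h5 : x = c₁ * t * c₁⁻¹ := by rw [← h₁.conj]; group
    rw [h4, h5]
    calc c₁ * u * c₂⁻¹ * (c₂ * t * c₂⁻¹) * (c₁ * u * c₂⁻¹)⁻¹ = c₁ * (u * t) * u⁻¹ * c₁⁻¹ := by group
      _ = c₁ * t * c₁⁻¹ := by rw [hut]; group

end

end Cfsg.Agent.H351.UnfE7
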