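import Cfsg.Agent.H351.UnfE7.PairW
import Cfsg.Agent.H351.UnfE7.Comb
import Cfsg.Agent.H720.TorusReal
import Cfsg.Agent.H129.TorusUntw

/-!
# Involutions of `E₇(k)`, `k` algebraically closed of odd characteristic (helper351, S3026)

* `Std k j t` : the torus element `t` with value `-1` on the `j`-th simple root and `1` on the others;
* `exists_std` : every involution of the torus is conjugate to `t` with `Std k j t`, `j = 0, 1` or `6`;
* `exists_pair` : the pair reduction;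
* `fixed_conj` : two fixed points of `σ` with the same reduced pair are conjugate under the fixed points of `σ`.
-/

set_option autoImplicit false
set_option linter.unusedSectionVars false

namespace Cfsg.Agent.H351.UnfE7

open CoxeterSystem Cfsg Cfsg.Lie Cfsg.Lie.ChevalleyDatum
open Cfsg.Agent.ChevalleyStructure Cfsg.Agent.ChevalleyStructure.Elts Cfsg.Agent.ChevalleyStructure.CoxeterGeom
  Cfsg.Agent.ChevalleyStructure.CoxeterGeomTypes Cfsg.Agent.ChevalleyStructure.NPerm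
open Cfsg.Agent.Tits.Roots Cfsg.Agent.Tits.Core Cfsg.Agent.Nodes Cfsg.Agent.Nodes.Reps Cfsg.Agent.Nodes.BNOf
  Cfsg.Agent.Nodes.RGDChev Cfsg.Agent.Nodes.Bruhat Cfsg.Agent.Nodes.SubComb Cfsg.Agent.Nodes.Coroot
open Cfsg.Agent.KFacts.RgdField Cfsg.Agent.KFacts.RgdChevCoord Cfsg.Agent.BpExc.TorCent Cfsg.Agent.BpExc.TorChev
open Cfsg.Agent.GpExc.Field Cfsg.Agent.BpExc.Tow Cfsg.Agent.BpExc.TowChev Cfsg.Agent.BpExc.Fr
  Cfsg.Agent.BpExc.LangFr Cfsg.Agent.LangThm Cfsg.Agent.BpExc Cfsg.Agent.H129.TorusChar Cfsg.Agent.H129.TorusCent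
  Cfsg.Agent.H129.TorusTw Cfsg.Agent.H129.TorusMain Cfsg.Agent.H129.TorusUntw Cfsg.Agent.H129.WForm
  Cfsg.Agent.H720.TorusReal

universe u

/-! ### masks -/

/-- the neighbours of a node -/
def nb : Fin 7 → ℕ := ![4, 8, 9, 22, 40, 80, 32]

/-- the action of the `j`-th reflection on the set of the simple roots with value `-1` -/
def mv (j : Fin 7) (m : ℕ) : ℕ := if m.testBit j then m ^^^ nb j else m

def nxt (m : ℕ) : Fin 7 := ([0, 6, 6, 0, 2, 0, 1, 2, 3, 3, 1, 0, 2, 3, 3, 2, 4, 0, 1, 4, 2, 2, 4, 4, 4, 3, 3, 4, 3, 3,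
  4, 4, 5, 0, 1, 1, 5, 2, 2, 1, 5, 5, 3, 3, 3, 5, 2, 3, 5, 4, 4, 5, 4, 4, 5, 5, 3, 4, 4, 5, 4, 4, 5, 5, 0, 6, 6, 1,
  6, 6, 2, 1, 3, 6, 6, 3, 6, 6, 2, 3, 6, 6, 4, 4, 4, 6, 6, 4, 3, 4, 6, 6, 6, 4, 4, 6, 6, 5, 5, 6, 5, 5, 6, 6, 5, 5,
  5, 6, 5, 5, 6, 6, 4, 5, 5, 5, 6, 5, 5, 5, 6, 6, 5, 5, 5, 6, 5, 5] : List (Fin 7)).getD m 0

theorem mv_bit : ∀ m < 128, ∀ j i : Fin 7, (mv j m).testBit i = (m.testBit i ^^ (m.testBit j && decide (A7 j i % 2 = 1))) := by
  decide +kernel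

theorem mv_lt : ∀ m < 128, ∀ j : Fin 7, mv j m < 128 := by decide +kernel

theorem iter_std : ∀ m < 128, m ≠ 0 → (fun m => mv (nxt m) m)^[16] m = 1 ∨ (fun m => mv (nxt m) m)^[16] m = 2 ∨
    (fun m => mv (nxt m) m)^[16] m = 64 := by decide +kernel

def toMask (v : Fin 7 → Bool) : ℕ := ∑ i : Fin 7, if v i then 2 ^ (i : ℕ) else 0

theorem toMask_bit : ∀ v : Fin 7 → Bool, toMask v < 128 ∧ ∀ i : Fin 7, (toMask v).testBit i = v i := by decide +kernel

section

variable {k : Type u} [Field k]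

/-- the torus element whose set of simple roots with value `-1` is `m` -/
def HasMask (t : ↥(chevE7.group k)) (m : ℕ) : Prop :=
  t ∈ TT chevE7 k ∧ ∀ i : Fin 7, cX hp7 t (sr i) = if m.testBit i then -1 else 1

/-- value `-1` on the `j`-th simple root, `1` on the others -/
def Std (k : Type u) [Field k] (j : Fin 7) (t : ↥(chevE7.group k)) : Prop :=
  t ∈ TT chevE7 k ∧ ∀ i, cX hp7 t (sr i) = if i = j then -1 else 1

theorem Std.cX {j : Fin 7} {t : ↥(chevE7.group k)} (h : Std k j t) (x : Fin 7 → ℤ) : cX hp7 t x = (-1) ^ x j := by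
  rw [(isMC_cX hp7 h.1).eq_prod, Finset.prod_eq_single j]
  · rw [h.2, if_pos rfl]
  · intro i _ hi
    rw [h.2, if_neg hi, one_zpow]
  · intro hj
    exact absurd (Finset.mem_univ j) hj

theorem Std.eq {j : Fin 7} {s t : ↥(chevE7.group k)} (hs : Std k j s) (ht : Std k j t) : s = t :=
  cX_inj hp7 hs.1 ht.1 fun i => by rw [hs.2, ht.2]

theorem HasMask.std {t : ↥(chevE7.group k)} {m : ℕ} (h : HasMask t m) (j : Fin 7) (hm : m = 2 ^ (j : ℕ)) : Std k j t := by
  refine ⟨h.1, fun i => ?_⟩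
  rw [h.2, hm, Nat.testBit_two_pow]
  by_cases hij : i = j
  · subst hij; simp
  · rw [if_neg hij, if_neg]
    rw [decide_eq_true_eq]
    exact fun h => hij (Fin.ext h.symm)

theorem neg_one_zpow_mod (a : ℤ) : ((-1 : k)) ^ a = if a % 2 = 1 then -1 else 1 := by
  rcases Int.emod_two_eq_zero_or_one a with h | h
  · rw [if_neg (by omega)]
    exact Even.neg_one_zpow (Int.even_iff.2 h)
  · rw [if_pos h]
    exact Odd.neg_one_zpow (Int.odd_iff.2 h)

/-- a reflection -/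
theorem HasMask.step {W : Type*} [Group W] (cs : CoxeterSystem CoxeterMatrix.E₇ W) (hk : LocFin k) (p : ℕ)
    [Fact p.Prime] [CharP k p] {t : ↥(chevE7.group k)} {m : ℕ} (hm : m < 128) (h : HasMask t m) (j : Fin 7) :
    HasMask (nc hp7 k j * t * (nc hp7 k j)⁻¹) (mv j m) := by
  have hN := nsys_of_locFin hp7 cs hk p
  have hn := rp_simple cs hN j
  have ht' : nc hp7 k j * t * (nc hp7 k j)⁻¹ ∈ TT chevE7 k := (Subgroup.mem_normalizer_iff.1 hn.mem_normalizer t).1 h.1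
  refine ⟨ht', fun i => ?_⟩
  have e1 : sr i = rep cs hp7.isCartan (cs.simple j) (rep cs hp7.isCartan (cs.simple j) (sr i)) := by
    rw [← rep_mul_apply, cs.simple_mul_simple_self, map_one]; rfl
  have h1 : cX hp7 (nc hp7 k j * t * (nc hp7 k j)⁻¹) (sr i) = cX hp7 t (rep cs hp7.isCartan (cs.simple j) (sr i)) := by
    conv_lhs => rw [e1]
    exact cX_rp hp7 cs hk p hn h.1 _
  rw [h1, rep_simple_eq, pairing_sr, ← hA7, (isMC_cX hp7 h.1).sub, (isMC_cX hp7 h.1).zsmul, h.2, h.2, mv_bit m hm j i]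
  cases h3 : m.testBit (j : ℕ)
  · simp
  · rw [if_pos rfl, neg_one_zpow_mod]
    by_cases h4 : A7 j i % 2 = 1
    · rw [if_pos h4, decide_eq_true h4]
      cases m.testBit (i : ℕ) <;> simp
    · rw [if_neg h4, decide_eq_false h4]
      cases m.testBit (i : ℕ) <;> simp

/-- **The involutions of the torus.** -/
theorem exists_std (hk : LocFin k) (p : ℕ) [Fact p.Prime] [CharP k p] {t : ↥(chevE7.group k)} (ht : t ∈ TT chevE7 k)
    (h2 : t * t = 1) (h1 : t ≠ 1) : ∃ g : ↥(chevE7.group k), ∃ j : Fin 7, (j = 0 ∨ j = 1 ∨ j = 6) ∧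
      Std k j (g * t * g⁻¹) := by
  classical
  have hval : ∀ i : Fin 7, cX hp7 t (sr i) = 1 ∨ cX hp7 t (sr i) = -1 := by
    intro i
    have h3 := cX_mul hp7 ht ht (sr i)
    rw [h2, cX_one] at h3
    exact mul_self_eq_one_iff.1 h3.symm
  obtain ⟨v, hv⟩ : ∃ v : Fin 7 → Bool, v = fun i => decide (cX hp7 t (sr i) = -1) := ⟨_, rfl⟩
  obtain ⟨hlt, hbit⟩ := toMask_bit v
  have h0 : HasMask t (toMask v) := by
    refine ⟨ht, fun i => ?_⟩
    rw [hbit, hv]
    by_cases h4 : cX hp7 t (sr i) = -1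
    · simp [h4]
    · rcases hval i with h5 | h5
      · rw [if_neg]
        · exact h5
        · simpa using h4
      · exact absurd h5 h4
  have hne : toMask v ≠ 0 := by
    intro h3
    apply h1
    refine cX_inj hp7 ht (one_mem _) fun i => ?_
    have h4 := h0.2 i
    rw [h3, Nat.zero_testBit] at h4
    rw [h4, cX_one]; rfl
  have key : ∀ n : ℕ, ∃ g : ↥(chevE7.group k), (fun m => mv (nxt m) m)^[n] (toMask v) < 128 ∧
      HasMask (g * t * g⁻¹) ((fun m => mv (nxt m) m)^[n] (toMask v)) := by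
    intro n
    induction n with
    | zero => exact ⟨1, hlt, by simpa using h0⟩
    | succ n ih =>
      obtain ⟨g, hg, h5⟩ := ih
      rw [Function.iterate_succ_apply']
      refine ⟨nc hp7 k (nxt ((fun m => mv (nxt m) m)^[n] (toMask v))) * g, mv_lt _ hg _, ?_⟩
      have h6 := h5.step CoxeterMatrix.E₇.toCoxeterSystem hk p hg (nxt ((fun m => mv (nxt m) m)^[n] (toMask v)))
      rw [show ∀ n g : ↥(chevE7.group k), n * g * t * (n * g)⁻¹ = n * (g * t * g⁻¹) * n⁻¹ by intros; group]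
      exact h6
  obtain ⟨g, -, h5⟩ := key 16
  rcases iter_std _ hlt hne with h6 | h6 | h6
  · exact ⟨g, 0, Or.inl rfl, h5.std 0 (by rw [h6]; rfl)⟩
  · exact ⟨g, 1, Or.inr (Or.inl rfl), h5.std 1 (by rw [h6]; rfl)⟩
  · exact ⟨g, 6, Or.inr (Or.inr rfl), h5.std 6 (by rw [h6]; rfl)⟩

end

end Cfsg.Agent.H351.UnfE7
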