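import Cfsg.Agent.H351.UnfE7.Main

/-!
# The class `j = 0` of involutions of `E₇(q)`, `q` odd (helper351, S3026)

* `conj_zero` : an involution of `E₇(F)` conjugate over `k` to `t` with `Std k 0 t` is conjugate to `t0 F`;
* `conj_mask` : the same for torus elements given by their mask.
-/

set_option autoImplicit false
set_option linter.unusedSectionVars false

namespace Cfsg.Agent.H351.UnfE7

open CoxeterSystem Cfsg Cfsg.Lie Cfsg.Lie.ChevalleyDatum
open Cfsg.Agent.ChevalleyStructure Cfsg.Agent.ChevalleyStructure.Elts Cfsg.Agent.ChevalleyStructure.CoxeterGeom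
  Cfsg.Agent.ChevalleyStructure.CoxeterGeomTypes Cfsg.Agent.ChevalleyStructure.NPerm
open Cfsg.Agent.Tits.Roots Cfsg.Agent.Tits.Core Cfsg.Agent.Nodes Cfsg.Agent.Nodes.Reps Cfsg.Agent.Nodes.BNOf
  Cfsg.Agent.Nodes.RGDChev Cfsg.Agent.Nodes.Bruhat Cfsg.Agent.Nodes.SubComb Cfsg.Agent.Nodes.Coroot
open Cfsg.Agent.KFacts.RgdField Cfsg.Agent.KFacts.RgdChevCoord Cfsg.Agent.BpExc.TorCent Cfsg.Agent.BpExc.TorChev
open Cfsg.Agent.GpExc.Field Cfsg.Agent.BpExc.Tow Cfsg.Agent.BpExc.TowChev Cfsg.Agent.BpExc.Fr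
  Cfsg.Agent.BpExc.LangFr Cfsg.Agent.LangThm Cfsg.Agent.BpExc Cfsg.Agent.H129.TorusChar Cfsg.Agent.H129.TorusCent
  Cfsg.Agent.H129.TorusTw Cfsg.Agent.H129.TorusMain Cfsg.Agent.H129.TorusUntw Cfsg.Agent.H129.WForm
  Cfsg.Agent.H720.TorusReal Cfsg.Agent.H129
open Cfsg.Agent.H238 Cfsg.Agent.H238.SL2Key
open Matrix (SpecialLinearGroup)

universe u v

/-- the involution of the root with index `r` -/
noncomputable def tr (K : Type u) [Field K] (r : ℕ) : ↥(chevE7.group K) :=
  phr K r (H (-1) (neg_ne_zero.2 one_ne_zero))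

theorem map_H {K : Type u} [Field K] {K' : Type v} [Field K'] (f : K →+* K') :
    SpecialLinearGroup.map f (H (-1) (neg_ne_zero.2 one_ne_zero)) = H (-1 : K') (neg_ne_zero.2 one_ne_zero) := by
  refine ext2 ?_
  ext i j
  rw [mm_map, coe_H, coe_H]
  fin_cases i <;> fin_cases j <;> simp

theorem emb_tr {K : Type u} [Field K] {K' : Type u} [Field K'] (f : K →+* K') {r : ℕ} (h : r < chevE7.nroots) :
    emb hp7.inList f (tr K r) = tr K' r := by
  unfold tr
  rw [emb_phr f h, map_H]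

theorem tr_mask {K : Type u} [Field K] {r m : ℕ} (h : r < chevE7.nroots)
    (hm : ∀ i : Fin 7, (Strings.cartanR chevE7 r (chevE7.simple i) % 2 = 1) ↔ m.testBit i = true) :
    HasMask (tr K r) m := by
  obtain ⟨h1, h2⟩ := phr_H (K := K) h (s := -1) (neg_ne_zero.2 one_ne_zero)
  refine ⟨h1, fun i => ?_⟩
  have h3 : cX hp7 (tr K r) (sr i) = (-1) ^ Strings.cartanR chevE7 r (chevE7.simple i) := h2 i
  rw [h3, neg_one_zpow_mod]
  exact if_congr (hm i) rfl rfl

theorem HasMask.mul {K : Type u} [Field K] {s t : ↥(chevE7.group K)} {a b c : ℕ} (hs : HasMask s a) (ht : HasMask t b)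
    (hc : ∀ i : Fin 7, c.testBit i = (a.testBit i ^^ b.testBit i)) : HasMask (s * t) c := by
  refine ⟨mul_mem hs.1 ht.1, fun i => ?_⟩
  rw [cX_mul hp7 hs.1 ht.1, hs.2, ht.2, hc]
  cases a.testBit (i : ℕ) <;> cases b.testBit (i : ℕ) <;> simp

/-- iterating the moves -/
theorem HasMask.iter {K : Type u} [Field K] (hk : LocFin K) (p : ℕ) [Fact p.Prime] [CharP K p]
    {t : ↥(chevE7.group K)} {m : ℕ} (hlt : m < 128) (h0 : HasMask t m) (n : ℕ) : ∃ g : ↥(chevE7.group K),
      (fun m => mv (nxt m) m)^[n] m < 128 ∧ HasMask (g * t * g⁻¹) ((fun m => mv (nxt m) m)^[n] m) := by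
  induction n with
  | zero => exact ⟨1, hlt, by simpa using h0⟩
  | succ n ih =>
    obtain ⟨g, hg, h5⟩ := ih
    rw [Function.iterate_succ_apply']
    refine ⟨nc hp7 K (nxt ((fun m => mv (nxt m) m)^[n] m)) * g, mv_lt _ hg _, ?_⟩
    have h6 := h5.step CoxeterMatrix.E₇.toCoxeterSystem hk p hg (nxt ((fun m => mv (nxt m) m)^[n] m))
    rw [show ∀ n g : ↥(chevE7.group K), n * g * t * (n * g)⁻¹ = n * (g * t * g⁻¹) * n⁻¹ by intros; group]
    exact h6

section Main

variable {k : Type u} [Field k] [IsAlgClosed k] {p e : ℕ} [Fact p.Prime] [CharP k p] {F : Type u} [Field F] [Fintype F]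
  (f : F →+* k)

/-- **The class `j = 0`.** -/
theorem conj_zero (hk : LocFin k) (hp2 : p ≠ 2) (he : 0 < e) (hq : Fintype.card F = p ^ e)
    {x : ↥(chevE7.group F)} {z : ↥(chevE7.group k)} (hz : Std k 0 (z * emb hp7.inList f x * z⁻¹)) :
    IsConj (tr F 125) x := by
  have hW := finite_W hp7 cs7
  set σ := phi chevE7 k p e with hσdef
  have hσ : IsFrob p e σ := isFrob_phi
  have hF := fr_phi (k := k) (p := p) (e := e) hp7 cs7
  have hlt : 125 < chevE7.nroots := by decide
  have hm : HasMask (emb hp7.inList f (tr F 125)) 1 := by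
    rw [emb_tr f hlt]
    exact tr_mask hlt (by decide +kernel)
  have hst : Std k 0 (emb hp7.inList f (tr F 125)) := hm.std 0 rfl
  have hzy : Std k 0 (1 * emb hp7.inList f (tr F 125) * 1⁻¹) := by
    rw [one_mul, inv_one, mul_one]
    exact hst
  obtain ⟨wx, cx, Rx⟩ := exists_pair cs7 hk hp2 he hσ hF (phi_emb hp7 f hq x) hz
  obtain ⟨wy, cy, Ry⟩ := exists_pair cs7 hk hp2 he hσ hF (phi_emb hp7 f hq (tr F 125)) hzy
  rw [hz.eq hzy] at Rx
  obtain rfl := class0 Rx.pres
  obtain rfl := class0 Ry.pres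
  obtain ⟨a, ha, h1⟩ := fixed_conj cs7 hk he hσ Rx Ry
  obtain ⟨a0, s, hs, rfl⟩ := fix_split hp7 f hq ha
  have hinj := emb_injective hp7.inList f
  refine isConj_iff.2 ⟨a0, hinj ?_⟩
  rw [map_mul, map_mul, map_inv, ← h1]
  have h2 : s * emb hp7.inList f (tr F 125) = emb hp7.inList f (tr F 125) * s := TT_comm hp7 hs hst.1
  calc emb hp7.inList f a0 * emb hp7.inList f (tr F 125) * (emb hp7.inList f a0)⁻¹
      = emb hp7.inList f a0 * (emb hp7.inList f (tr F 125) * s) * s⁻¹ * (emb hp7.inList f a0)⁻¹ := by group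
    _ = emb hp7.inList f a0 * (s * emb hp7.inList f (tr F 125)) * s⁻¹ * (emb hp7.inList f a0)⁻¹ := by rw [h2]
    _ = _ := by group

theorem conj_mask (hk : LocFin k) (hp2 : p ≠ 2) (he : 0 < e) (hq : Fintype.card F = p ^ e)
    {x : ↥(chevE7.group F)} {m : ℕ} (hm : m < 128) (hx : HasMask (emb hp7.inList f x) m)
    (h : (fun m => mv (nxt m) m)^[16] m = 1) : IsConj (tr F 125) x := by
  obtain ⟨g, -, h1⟩ := hx.iter hk p hm 16
  rw [h] at h1
  exact conj_zero f hk hp2 he hq (h1.std 0 rfl)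

include f in
/-- **A pure four-group of the class `j = 0`.** -/
theorem four_zero (hk : LocFin k) (hp2 : p ≠ 2) (he : 0 < e) (hq : Fintype.card F = p ^ e) :
    ∃ a b : ↥(chevE7.group F), a * b = b * a ∧ IsConj (tr F 125) a ∧ IsConj (tr F 125) b ∧
      IsConj (tr F 125) (a * b) := by
  have h93 : 93 < chevE7.nroots := by decide
  have h73 : 73 < chevE7.nroots := by decide
  have ha : HasMask (emb hp7.inList f (tr F 93)) 4 := by
    rw [emb_tr f h93]
    exact tr_mask h93 (by decide +kernel)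
  have hb : HasMask (emb hp7.inList f (tr F 73)) 9 := by
    rw [emb_tr f h73]
    exact tr_mask h73 (by decide +kernel)
  have hab : HasMask (emb hp7.inList f (tr F 93 * tr F 73)) 13 := by
    rw [map_mul]
    exact ha.mul hb (by decide +kernel)
  refine ⟨tr F 93, tr F 73, ?_, ?_, ?_, ?_⟩
  · apply emb_injective hp7.inList f
    rw [map_mul, map_mul]
    exact TT_comm hp7 ha.1 hb.1
  · exact conj_mask f hk hp2 he hq (by norm_num) ha (by decide +kernel)
  · exact conj_mask f hk hp2 he hq (by norm_num) hb (by decide +kernel)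
  · exact conj_mask f hk hp2 he hq (by norm_num) hab (by decide +kernel)

include f in
/-- **A pure four-group of the classes `j = 1, 6`.** -/
theorem Cl.four {j : Fin 7} {L : List ℕ} (C : Cl j L) (hk : LocFin k) (hp2 : p ≠ 2) (he : 0 < e)
    (hq : Fintype.card F = p ^ e) : ∃ a b : ↥(chevE7.group F), a * b = b * a ∧ IsConj (Phi F C.orth (m0 F)) a ∧
      IsConj (Phi F C.orth (m0 F)) b ∧ IsConj (Phi F C.orth (m0 F)) (a * b) := by
  have h2k := two_ne (k := k) hp2
  have h2F : (2 : F) ≠ 0 := by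
    intro h
    apply h2k
    have := congrArg f h
    rwa [map_ofNat, map_zero] at this
  have key : ∀ M : SpecialLinearGroup (Fin 2) F, mm M 0 0 + mm M 1 1 = 0 →
      IsConj (Phi F C.orth (m0 F)) (Phi F C.orth M) := by
    intro M hM
    obtain ⟨z, hz⟩ := C.std_of_trace (k := k) h2k (M := SpecialLinearGroup.map f M) (by
      rw [mm_map, mm_map, ← map_add, hM, map_zero])
    rw [← emb_Phi] at hz
    exact C.conj_main f hk hp2 he hq hz
  obtain ⟨a, b, hab⟩ := sum_sq h2F (-1 : F)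
  obtain ⟨M, hM⟩ : ∃ M : SpecialLinearGroup (Fin 2) F, mm M = !![a, b; b, -a] := by
    refine ⟨⟨!![a, b; b, -a], ?_⟩, rfl⟩
    rw [Matrix.det_fin_two]
    simp
    linear_combination -hab
  have e1 : mm (M * m0 F) = -mm (m0 F * M) := by
    rw [mm_mul, mm_mul, hM, coe_m0]
    ext i j
    fin_cases i <;> fin_cases j <;> simp [Matrix.mul_apply, Fin.sum_univ_two]
  refine ⟨Phi F C.orth (m0 F), Phi F C.orth M, ?_, IsConj.refl _, key M ?_, ?_⟩
  · rw [← map_mul, ← map_mul]
    exact (C.phi_neg e1).symm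
  · rw [hM]; simp
  · rw [← map_mul]
    refine key _ ?_
    rw [mm_mul, hM, coe_m0]
    simp [Matrix.mul_apply, Fin.sum_univ_two]

end Main

end Cfsg.Agent.H351.UnfE7
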